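import Groth.Prelude.Def_W4sga3xxiRoot
import Mathlib.LinearAlgebra.RootSystem.Finite.Lemmas
import Mathlib.LinearAlgebra.RootSystem.Finite.Nondegenerate
import Mathlib.LinearAlgebra.RootSystem.WeylGroup
import Mathlib.LinearAlgebra.RootSystem.Hom

/-! Basic facts on finite crystallographic root pairings, possibly non-reduced. -/

namespace Groth.Agent.RootDatum

open RootPairing Function Set

set_option linter.unusedSectionVars false

variable {ι R M N : Type*} [CommRing R] [CharZero R] [IsDomain R]
  [AddCommGroup M] [Module R M] [AddCommGroup N] [Module R N]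
  (P : RootPairing ι R M N) [P.IsCrystallographic]

omit [P.IsCrystallographic] in
include P in
theorem isAddTorsionFree_left : IsAddTorsionFree M := by
  have : Module.IsReflexive R M := .of_isPerfPair P.toLinearMap
  exact .of_isTorsionFree R M

omit [P.IsCrystallographic] in
include P in
theorem isAddTorsionFree_right : IsAddTorsionFree N :=
  isAddTorsionFree_left P.flip

theorem pairing_eq_cast (i j : ι) : P.pairing i j = (P.pairingIn ℤ i j : R) := by
  rw [← P.algebraMap_pairingIn ℤ, eq_intCast]

@[simp]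
theorem pairingIn_int {M N : Type*} [AddCommGroup M] [AddCommGroup N]
    (P : RootPairing ι ℤ M N) (i j : ι) : P.pairingIn ℤ i j = P.pairing i j := by
  rw [← P.algebraMap_pairingIn ℤ]; simp

theorem pairingIn_self (i : ι) : P.pairingIn ℤ i i = 2 := P.pairingIn_same ℤ i

omit [CharZero R] [IsDomain R] [P.IsCrystallographic] in
theorem root_neg (i : ι) : P.root (P.reflectionPerm i i) = -P.root i := by simp

omit [CharZero R] [IsDomain R] [P.IsCrystallographic] in
theorem neg_neg_index (i : ι) :
    P.reflectionPerm (P.reflectionPerm i i) (P.reflectionPerm i i) = i := by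
  apply P.root.injective; rw [root_neg, root_neg, neg_neg]

omit [P.IsCrystallographic] in
theorem root_ne_neg_self (i : ι) : P.root i ≠ -P.root i := by
  have := isAddTorsionFree_left P
  intro h
  have h2 : (2 : ℕ) • P.root i = 0 := by rw [two_nsmul]; nth_rw 2 [h]; exact add_neg_cancel _
  exact P.ne_zero i ((smul_eq_zero.mp h2).resolve_left (by norm_num))

theorem root_reflect (i j : ι) :
    P.root (P.reflectionPerm i j) = P.root j - P.pairingIn ℤ j i • P.root i := by
  rw [P.root_reflectionPerm, P.reflection_apply_root' ℤ]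

/-- Pairing of an integral combination of roots with a coroot. -/
theorem coroot'_linearCombination (c : ι →₀ ℤ) (l : ι) :
    P.coroot' l (Finsupp.linearCombination ℤ P.root c)
      = ((c.sum fun j a => a * P.pairingIn ℤ j l : ℤ) : R) := by
  simp only [Finsupp.linearCombination_apply, Finsupp.sum, map_sum, map_zsmul, Int.cast_sum,
    Int.cast_mul, root_coroot'_eq_pairing, pairing_eq_cast, zsmul_eq_mul]

theorem coroot'_multiset_sum (s : Multiset ι) (l : ι) :
    P.coroot' l (s.map P.root).sum = (((s.map fun a => P.pairingIn ℤ a l).sum : ℤ) : R) := by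
  induction s using Multiset.induction_on with
  | empty => simp
  | cons a s ih =>
    simp only [Multiset.map_cons, Multiset.sum_cons, map_add, ih, Int.cast_add,
      root_coroot'_eq_pairing, pairing_eq_cast]

theorem pairingIn_sum_of_sum_eq {s : Multiset ι} {k : ι} (h : (s.map P.root).sum = P.root k)
    (l : ι) : (s.map fun a => P.pairingIn ℤ a l).sum = P.pairingIn ℤ k l := by
  have := coroot'_multiset_sum P s l
  rw [h, root_coroot'_eq_pairing, pairing_eq_cast] at this
  exact_mod_cast this.symm

theorem exists_pos_of_sum_pos {α : Type*} {s : Multiset α} {f : α → ℤ}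
    (h : 0 < (s.map f).sum) : ∃ a ∈ s, 0 < f a := by
  by_contra! hc
  have : (s.map f).sum ≤ (s.map fun _ => (0 : ℤ)).sum := Multiset.sum_map_le_sum_map _ _ hc
  simp at this
  omega

theorem exists_neg_of_sum_neg {α : Type*} {s : Multiset α} {f : α → ℤ}
    (h : (s.map f).sum < 0) : ∃ a ∈ s, f a < 0 := by
  by_contra! hc
  have : (s.map fun _ => (0 : ℤ)).sum ≤ (s.map f).sum := Multiset.sum_map_le_sum_map _ _ hc
  simp at this
  omega

/-! ### natural-number combinations -/

omit [CharZero R] [IsDomain R] [P.IsCrystallographic] in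
theorem mem_natSpan_iff {S : Set ι} {x : M} :
    x ∈ RootD.natSpan P S ↔
      ∃ s : Multiset ι, (∀ a ∈ s, a ∈ S) ∧ (s.map P.root).sum = x := by
  constructor
  · intro hx
    induction hx using AddSubmonoid.closure_induction with
    | mem x hx =>
      obtain ⟨i, hi, rfl⟩ := hx
      exact ⟨{i}, by simpa using hi, by simp⟩
    | zero => exact ⟨0, by simp, by simp⟩
    | add x y _ _ hx hy =>
      obtain ⟨s, hs, rfl⟩ := hx
      obtain ⟨t, ht, rfl⟩ := hy
      refine ⟨s + t, ?_, by simp⟩
      intro a ha
      rcases Multiset.mem_add.mp ha with h | h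
      exacts [hs a h, ht a h]
  · rintro ⟨s, hs, rfl⟩
    refine AddSubmonoid.multiset_sum_mem _ _ ?_
    intro x hx
    obtain ⟨a, ha, rfl⟩ := Multiset.mem_map.mp hx
    exact AddSubmonoid.subset_closure ⟨a, hs a ha, rfl⟩

omit [CharZero R] [IsDomain R] [P.IsCrystallographic] in
theorem root_mem_natSpan {S : Set ι} {i : ι} (hi : i ∈ S) : P.root i ∈ RootD.natSpan P S :=
  AddSubmonoid.subset_closure ⟨i, hi, rfl⟩

omit [CharZero R] [IsDomain R] [P.IsCrystallographic] in
theorem natSpan_mono {S T : Set ι} (h : S ⊆ T) : RootD.natSpan P S ≤ RootD.natSpan P T :=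
  AddSubmonoid.closure_mono (Set.image_mono h)

omit [CharZero R] [IsDomain R] [P.IsCrystallographic] in
theorem natSpan_le {S : Set ι} {A : AddSubmonoid M} (h : ∀ i ∈ S, P.root i ∈ A) :
    RootD.natSpan P S ≤ A :=
  AddSubmonoid.closure_le.mpr (by rintro _ ⟨i, hi, rfl⟩; exact h i hi)

section Finite

variable [Finite ι]

theorem exists_root_sub_of_pairingIn_pos {i j : ι} (h : 0 < P.pairingIn ℤ i j) (h' : i ≠ j) :
    ∃ k, P.root k = P.root i - P.root j :=
  P.root_sub_root_mem_of_pairingIn_pos h h'

theorem exists_root_add_of_pairingIn_neg {i j : ι} (h : P.pairingIn ℤ i j < 0)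
    (h' : P.root i ≠ -P.root j) : ∃ k, P.root k = P.root i + P.root j :=
  P.root_add_root_mem_of_pairingIn_neg h h'

/-- A root which is a sum of roots can be built by adding one of them at a time, staying inside
the roots. -/
theorem chain_induction {p : ι → Prop} (s : Multiset ι) {k : ι}
    (h : (s.map P.root).sum = P.root k) (base : ∀ a ∈ s, p a)
    (step : ∀ i j k', p i → j ∈ s → P.root k' = P.root i + P.root j → p k') : p k := by
  induction hn : Multiset.card s using Nat.strong_induction_on generalizing s k with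
  | _ n ih =>
    obtain ⟨a, ha, hpos⟩ := exists_pos_of_sum_pos (s := s) (f := fun a => P.pairingIn ℤ a k)
      (by rw [pairingIn_sum_of_sum_eq P h, pairingIn_self]; norm_num)
    by_cases hak : a = k
    · exact hak ▸ base a ha
    obtain ⟨k', hk'⟩ := exists_root_sub_of_pairingIn_pos P hpos hak
    -- `root k'' = root k - root a`
    obtain ⟨k'', hk''⟩ : ∃ k'', P.root k'' = P.root k - P.root a :=
      ⟨P.reflectionPerm k' k', by rw [root_neg, hk']; abel⟩
    classical
    obtain ⟨t, rfl⟩ := Multiset.exists_cons_of_mem ha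
    have ht : (t.map P.root).sum = P.root k'' := by
      rw [hk'', ← h, Multiset.map_cons, Multiset.sum_cons]; abel
    refine step k'' a k (ih (Multiset.card t) (by simp [← hn]) t ht
      (fun b hb => base b (Multiset.mem_cons_of_mem hb))
      (fun i j k₀ hi hj => step i j k₀ hi (Multiset.mem_cons_of_mem hj)) rfl) ha ?_
    rw [hk'']; abel

theorem mem_of_root_mem_natSpan {S : Set ι} (hc : RootD.IsClosedSub P S) {k : ι}
    (hk : P.root k ∈ RootD.natSpan P S) : k ∈ S := by
  obtain ⟨s, hs, h⟩ := (mem_natSpan_iff P).mp hk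
  exact chain_induction P s h hs fun i j k' hi hj e => hc hi (hs j hj) e

/-- In a closed set meeting no pair of opposite roots, no non-empty sum is orthogonal to all
coroots. -/
theorem exists_coroot'_sum_ne_zero {S : Set ι} (hc : RootD.IsClosedSub P S)
    (hd : ∀ ⦃i⦄, i ∈ S → P.reflectionPerm i i ∉ S) (s : Multiset ι) (hs : ∀ a ∈ s, a ∈ S)
    (hne : s ≠ 0) : ∃ l, P.coroot' l (s.map P.root).sum ≠ 0 := by
  induction hn : Multiset.card s using Nat.strong_induction_on generalizing s with
  | _ n ih =>
    by_contra! hz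
    classical
    obtain ⟨a, ha⟩ := Multiset.exists_mem_of_ne_zero hne
    obtain ⟨t, rfl⟩ := Multiset.exists_cons_of_mem ha
    have h0 := hz a
    rw [coroot'_multiset_sum] at h0
    norm_cast at h0
    rw [Multiset.map_cons, Multiset.sum_cons, pairingIn_self] at h0
    obtain ⟨b, hb, hneg⟩ := exists_neg_of_sum_neg (s := t) (f := fun x => P.pairingIn ℤ x a)
      (by omega)
    have hbS : b ∈ S := hs b (Multiset.mem_cons_of_mem hb)
    have haS : a ∈ S := hs a ha
    have hne' : P.root b ≠ -P.root a := by
      rw [← root_neg]; exact fun e => hd haS (P.root.injective e ▸ hbS)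
    obtain ⟨c, hc'⟩ := exists_root_add_of_pairingIn_neg P hneg hne'
    obtain ⟨u, rfl⟩ := Multiset.exists_cons_of_mem hb
    have hcS : c ∈ S := hc hbS haS hc'
    obtain ⟨l, hl⟩ := ih (Multiset.card (c ::ₘ u)) (by simp [← hn]) (c ::ₘ u)
      (by
        intro x hx
        rcases Multiset.mem_cons.mp hx with rfl | hx
        · exact hcS
        · exact hs x (Multiset.mem_cons_of_mem (Multiset.mem_cons_of_mem hx)))
      (Multiset.cons_ne_zero) rfl
    apply hl
    rw [← hz l]
    congr 1
    simp only [Multiset.map_cons, Multiset.sum_cons, hc']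
    abel

theorem exists_coroot'_add_ne_zero {S : Set ι} (hc : RootD.IsClosedSub P S)
    (hd : ∀ ⦃i⦄, i ∈ S → P.reflectionPerm i i ∉ S) {a : ι} (ha : a ∈ S) {y : M}
    (hy : y ∈ RootD.natSpan P S) : ∃ l, P.coroot' l (P.root a + y) ≠ 0 := by
  obtain ⟨s, hs, rfl⟩ := (mem_natSpan_iff P).mp hy
  have := exists_coroot'_sum_ne_zero P hc hd (a ::ₘ s)
    (by intro x hx; rcases Multiset.mem_cons.mp hx with rfl | hx; exacts [ha, hs x hx])
    Multiset.cons_ne_zero
  simpa only [Multiset.map_cons, Multiset.sum_cons] using this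

theorem root_add_ne_zero {S : Set ι} (hc : RootD.IsClosedSub P S)
    (hd : ∀ ⦃i⦄, i ∈ S → P.reflectionPerm i i ∉ S) {a : ι} (ha : a ∈ S) {y : M}
    (hy : y ∈ RootD.natSpan P S) : P.root a + y ≠ 0 := by
  obtain ⟨l, hl⟩ := exists_coroot'_add_ne_zero P hc hd ha hy
  exact fun h => hl (by rw [h, map_zero])

/-! ### proportional roots -/

/-- Proportional roots. -/
theorem zsmul_root_cases {i j : ι} {a b : ℤ} (hb : b ≠ 0) (h : b • P.root j = a • P.root i) :
    (P.root j = P.root i ∧ a = b) ∨ (P.root j = -P.root i ∧ a = -b) ∨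
    (P.root j = (2 : ℤ) • P.root i ∧ a = 2 * b) ∨ (P.root j = (-2 : ℤ) • P.root i ∧ a = -2 * b) ∨
    (P.root i = (2 : ℤ) • P.root j ∧ 2 * a = b) ∨
    (P.root i = (-2 : ℤ) • P.root j ∧ 2 * a = -b) := by
  have := isAddTorsionFree_left P
  have : Module.IsReflexive R M := .of_isPerfPair P.toLinearMap
  have : Module.IsReflexive R N := .of_isPerfPair P.flip.toLinearMap
  have h1 : b * P.pairingIn ℤ j i = a * 2 := by
    have := congrArg (P.coroot' i) h
    simp only [map_zsmul, root_coroot'_eq_pairing, pairing_eq_cast, pairingIn_self,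
      zsmul_eq_mul] at this
    exact_mod_cast this
  have h2 : b * 2 = a * P.pairingIn ℤ i j := by
    have := congrArg (P.coroot' j) h
    simp only [map_zsmul, root_coroot'_eq_pairing, pairing_eq_cast, pairingIn_self,
      zsmul_eq_mul] at this
    exact_mod_cast this
  have ha : a ≠ 0 := by rintro rfl; simp at h2; exact hb h2
  have h4 : P.pairingIn ℤ i j * P.pairingIn ℤ j i = 4 := by
    have : (P.pairingIn ℤ i j * P.pairingIn ℤ j i - 4) * (a * b) = 0 := by
      linear_combination a * P.pairingIn ℤ i j * h1 + a * 2 * (-h2)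
    rcases mul_eq_zero.mp this with h | h
    · omega
    · exact absurd h (mul_ne_zero ha hb)
  have hmem := P.pairingIn_pairingIn_mem_set_of_isCrystallographic i j
  simp only [mem_insert_iff, mem_singleton_iff, Prod.mk.injEq] at hmem
  have c1 : ∀ {x y : ι}, P.root y = (2 : R) • P.root x → P.root y = (2 : ℤ) • P.root x := by
    intro x y e; rw [e, ← Int.cast_smul_eq_zsmul R]; norm_num
  have c2 : ∀ {x y : ι}, P.root y = (-2 : R) • P.root x → P.root y = (-2 : ℤ) • P.root x := by
    intro x y e; rw [e, ← Int.cast_smul_eq_zsmul R]; norm_num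
  rcases hmem with e | e | e | e | e | e | e | e | e | e | e | e | e | e | e | e | e <;>
    obtain ⟨e1, e2⟩ := e <;> rw [e1, e2] at h4 <;> first
    | omega
    | (rw [e1] at h2; rw [e2] at h1
       first
       | exact Or.inl ⟨((P.pairingIn_two_two_iff ℤ i j).mp ⟨e1, e2⟩) ▸ rfl, by omega⟩
       | exact Or.inr (Or.inl ⟨by rw [(P.pairingIn_neg_two_neg_two_iff ℤ i j).mp ⟨e1, e2⟩,
            neg_neg], by omega⟩)
       | exact Or.inr (Or.inr (Or.inl ⟨c1 ((P.pairingIn_one_four_iff ℤ i j).mp ⟨e1, e2⟩),
            by omega⟩))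
       | exact Or.inr (Or.inr (Or.inr (Or.inl
            ⟨c2 ((P.pairingIn_neg_one_neg_four_iff ℤ i j).mp ⟨e1, e2⟩), by omega⟩)))
       | exact Or.inr (Or.inr (Or.inr (Or.inr (Or.inl
            ⟨c1 ((P.pairingIn_one_four_iff ℤ j i).mp ⟨e2, e1⟩), by omega⟩))))
       | exact Or.inr (Or.inr (Or.inr (Or.inr (Or.inr
            ⟨c2 ((P.pairingIn_neg_one_neg_four_iff ℤ j i).mp ⟨e2, e1⟩), by omega⟩)))))

end Finite

end Groth.Agent.RootDatum
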