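import Groth.Agent.RootDatum.Forms
import Mathlib.Algebra.Order.Monoid.Submonoid

/-! Dominance for linear forms into ordered groups. -/

namespace Groth.Agent.RootDatum

open RootPairing Function Set

set_option linter.unusedSectionVars false

variable {ι M N : Type*} [AddCommGroup M] [AddCommGroup N] (P : RootPairing ι ℤ M N) [Fintype ι]

/-- The sum of the roots of a set. -/
noncomputable def rootSum (S : Set ι) : M :=
  ∑ k ∈ (Set.toFinite S).toFinset, P.root k

theorem coroot'_rootSum_pos {Δ : Set ι} (hΔ : IsSimple P Δ) {i : ι}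
    (hi : i ∈ RootD.posOf P Δ) : 0 < P.coroot' i (rootSum P (RootD.posOf P Δ)) := by
  refine hΔ.coroot'_pos (fun δ hδ => ?_) hi
  rw [rootSum, map_sum]
  simp only [root_coroot'_eq_pairing]
  have := sum_pairingIn_pos P hΔ hδ (Set.toFinite (RootD.posOf P Δ)).toFinset (fun k => by simp)
  simpa only [pairingIn_int] using this

theorem sum_pairing_left_pos {Δ : Set ι} (hΔ : IsSimple P Δ) {δ : ι} (hδ : δ ∈ Δ) :
    0 < ∑ k ∈ (Set.toFinite (RootD.posOf P Δ)).toFinset, P.pairing δ k := by
  classical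
  have h := (sum_pairingIn_filter P hΔ hδ (Set.toFinite (RootD.posOf P Δ)).toFinset
    (fun k => by simp)).2
  simp only [pairingIn_int] at h
  rw [h]
  refine Finset.sum_pos (fun k hk => ?_) ⟨δ, ?_⟩
  · simp only [Finset.mem_filter, Set.Finite.mem_toFinset] at hk
    rcases hΔ.eq_or_two_of_reflect hk.1 hδ hk.2 with rfl | e
    · rw [P.pairing_same]; norm_num
    · have h2 := congrArg (P.coroot' k) e
      rw [map_zsmul, root_coroot'_eq_pairing, root_coroot'_eq_pairing, P.pairing_same,
        smul_eq_mul] at h2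
      omega
  · simp only [Finset.mem_filter, Set.Finite.mem_toFinset]
    exact ⟨hΔ.mem_posOf_self hδ, hΔ.reflect_not_pos hδ (Or.inl rfl)⟩

variable {Γ : Type*} [AddCommGroup Γ] [LinearOrder Γ] [IsOrderedAddMonoid Γ]

theorem nonneg_of_zsmul_nonneg {p : ℤ} {y : Γ} (hp : 0 < p) (h : 0 ≤ p • y) : 0 ≤ y := by
  by_contra! hy
  exact absurd h (not_le.mpr (smul_neg_of_pos_of_neg hp hy))

theorem nonneg_of_simple {Δ : Set ι} {f : M →+ Γ} (h : ∀ δ ∈ Δ, 0 ≤ f (P.root δ)) {k : ι}
    (hk : k ∈ RootD.posOf P Δ) : 0 ≤ f (P.root k) := by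
  have hle : RootD.natSpan P Δ ≤ (AddSubmonoid.nonneg Γ).comap f := natSpan_le P h
  exact hle hk

/-- `f m - f (g m)` as a combination of coroot forms with coefficients values of `f` at
positive roots. -/
theorem exists_coeffs_of_dominant {Δ : Set ι} (hΔ : IsSimple P Δ) {f : M →+ Γ}
    (hf : ∀ i ∈ RootD.posOf P Δ, 0 ≤ f (P.root i)) {g : P.Aut} (hg : g ∈ P.weylGroup) :
    ∃ c : ι → Γ, (∀ i, 0 ≤ c i) ∧ (∀ i, i ∉ RootD.posOf P Δ → c i = 0) ∧
      ∀ m : M, f m - f (g • m) = ∑ i, (P.coroot' i m) • c i := by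
  classical
  obtain ⟨l, hl, rfl⟩ := hΔ.exists_minimal_weyl hg
  clear hg
  induction l using List.reverseRecOn with
  | nil => exact ⟨0, fun _ => le_rfl, fun _ _ => rfl, fun m => by simp⟩
  | append_singleton t a ih =>
    obtain ⟨c, hc0, hcS, hc⟩ := ih hl.init
    have ha : a ∈ Δ := hl.1 a (by simp)
    have hp := hΔ.minimal_prefix_pos subset_rfl hl
    refine ⟨c + Pi.single a (f (P.root (wordProd P t • a))), fun i => ?_, fun i hi => ?_,
      fun m => ?_⟩
    · rw [Pi.add_apply]
      refine add_nonneg (hc0 i) ?_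
      rcases eq_or_ne i a with rfl | h
      · rw [Pi.single_eq_same]; exact hf _ hp
      · rw [Pi.single_eq_of_ne h]
    · have : i ≠ a := fun e => hi (e ▸ hΔ.mem_posOf_self ha)
      rw [Pi.add_apply, hcS i hi, Pi.single_eq_of_ne this, add_zero]
    · have e : wordProd P (t ++ [a]) • m =
          wordProd P t • m - P.coroot' a m • P.root (wordProd P t • a) := by
        rw [wordProd_append, wordProd_singleton, mul_smul, RootPairing.Equiv.reflection_smul,
          P.reflection_apply, smul_sub, smul_zsmul, root_smul]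
      rw [e, map_sub, map_zsmul, ← sub_add, hc m]
      simp only [Pi.add_apply, smul_add, Finset.sum_add_distrib]
      congr 1
      rw [Finset.sum_eq_single a (fun b _ hb => by rw [Pi.single_eq_of_ne hb, smul_zero])
        (fun h => absurd (Finset.mem_univ a) h), Pi.single_eq_same]

/-- A point is moved by the Weyl group into the closed chamber. -/
theorem exists_smul_dominant {Δ : Set ι} (hΔ : IsSimple P Δ) (m : M) :
    ∃ g : P.Aut, g ∈ P.weylGroup ∧ ∀ i ∈ RootD.posOf P Δ, 0 ≤ P.coroot' i (g • m) := by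
  classical
  have := weylGroup_finite P
  cases nonempty_fintype P.weylGroup
  let φ : M → ℤ := fun x => ∑ k ∈ (Set.toFinite (RootD.posOf P Δ)).toFinset, P.coroot' k x
  obtain ⟨⟨g, hg⟩, -, hmax⟩ := Finset.exists_max_image (Finset.univ : Finset P.weylGroup)
    (fun g => φ ((g : P.Aut) • m)) Finset.univ_nonempty
  refine ⟨g, hg, fun i hi => hΔ.coroot'_nonneg (fun δ hδ => ?_) hi⟩
  have h := hmax ⟨RootPairing.Equiv.reflection P δ * g,
    mul_mem (P.reflection_mem_weylGroup δ) hg⟩ (Finset.mem_univ _)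
  simp only [φ, mul_smul, RootPairing.Equiv.reflection_smul, P.reflection_apply, map_sub,
    map_smul, root_coroot'_eq_pairing, smul_eq_mul, Finset.sum_sub_distrib, ← Finset.mul_sum] at h
  refine nonneg_of_mul_nonneg_left ?_ (sum_pairing_left_pos P hΔ hδ)
  linarith

end Groth.Agent.RootDatum
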