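import Groth.Agent.RootDatum.Weyl

/-! Existence of positive systems, faithfulness of the action of the Weyl group on the roots. -/

namespace Groth.Agent.RootDatum

open RootPairing Function Set

set_option linter.unusedSectionVars false

variable {ι R M N : Type*} [CommRing R] [CharZero R] [IsDomain R]
  [AddCommGroup M] [Module R M] [AddCommGroup N] [Module R N]
  (P : RootPairing ι R M N) [P.IsCrystallographic] [Finite ι]

/-- An integer avoiding finitely many linear conditions. -/
theorem exists_int_avoid {α : Type*} [Fintype α] (a b : α → ℤ) :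
    ∃ m : ℤ, ∀ j, (a j ≠ 0 ∨ b j ≠ 0) → m * a j + b j ≠ 0 := by
  refine ⟨1 + ∑ j, |b j|, fun j hj h => ?_⟩
  have hb : |b j| ≤ ∑ j, |b j| :=
    Finset.single_le_sum (fun i _ => abs_nonneg (b i)) (Finset.mem_univ j)
  rcases eq_or_ne (a j) 0 with ha | ha
  · rw [ha, mul_zero, zero_add] at h
    exact hj.elim (fun h' => h' ha) (fun h' => h' h)
  · have h1 : |b j| = |(1 + ∑ j, |b j|)| * |a j| := by
      rw [← abs_mul, ← abs_neg (b j)]; congr 1; omega
    have h2 : 0 ≤ ∑ j, |b j| := Finset.sum_nonneg fun i _ => abs_nonneg _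
    rw [abs_of_pos (by omega : 0 < 1 + ∑ j, |b j|)] at h1
    nlinarith [Int.one_le_abs ha]

theorem exists_regular_weight :
    ∃ w : ι →₀ ℤ, ∀ k, w.sum (fun l a => a * P.pairingIn ℤ k l) ≠ 0 := by
  classical
  cases nonempty_fintype ι
  suffices ∀ T : Finset ι, ∃ w : ι →₀ ℤ, ∀ k ∈ T, w.sum (fun l a => a * P.pairingIn ℤ k l) ≠ 0 by
    obtain ⟨w, hw⟩ := this Finset.univ
    exact ⟨w, fun k => hw k (Finset.mem_univ k)⟩
  intro T
  induction T using Finset.induction_on with
  | empty => exact ⟨0, by simp⟩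
  | @insert k T _ ih =>
    obtain ⟨w, hw⟩ := ih
    obtain ⟨m, hm⟩ := exists_int_avoid
      (fun j => w.sum fun l a => a * P.pairingIn ℤ j l) (fun j => P.pairingIn ℤ j k)
    refine ⟨m • w + Finsupp.single k 1, fun j hj => ?_⟩
    rw [Finsupp.sum_add_index' (by simp) (fun _ _ _ => add_mul _ _ _),
      Finsupp.sum_single_index (by simp), one_mul, Finsupp.sum_smul_index (by simp)]
    simp only [mul_assoc, ← Finsupp.mul_sum]
    refine hm j ?_
    rcases Finset.mem_insert.mp hj with rfl | hj
    · exact Or.inr (by rw [pairingIn_self]; norm_num)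
    · exact Or.inl (hw j hj)

theorem exists_isPosSys : ∃ S : Set ι, RootD.IsPosSys P S := by
  obtain ⟨w, hw⟩ := exists_regular_weight P
  refine ⟨{k | 0 < w.sum (fun l a => a * P.pairingIn ℤ k l)}, ?_⟩
  have hneg : ∀ k, w.sum (fun l a => a * P.pairingIn ℤ (P.reflectionPerm k k) l)
      = -w.sum (fun l a => a * P.pairingIn ℤ k l) := by
    intro k
    simp only [P.pairingIn_reflectionPerm_self_left ℤ, mul_neg, Finsupp.sum,
      Finset.sum_neg_distrib]
  refine isPosSys_of_closed P (fun k hk hk' => ?_) (fun k => ?_) fun i j k hi hj e => ?_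
  · simp only [mem_ofPred_eq, hneg] at hk hk'
    omega
  · simp only [mem_ofPred_eq, hneg]
    have := hw k
    omega
  · simp only [mem_ofPred_eq] at hi hj ⊢
    have : w.sum (fun l a => a * P.pairingIn ℤ k l)
        = w.sum (fun l a => a * P.pairingIn ℤ i l) + w.sum (fun l a => a * P.pairingIn ℤ j l) := by
      simp only [Finsupp.sum, ← Finset.sum_add_distrib, ← mul_add]
      exact Finset.sum_congr rfl fun l _ => by rw [pairingIn_eq_add_of_root_eq_add e]
    omega

theorem exists_isSimple : ∃ Δ : Set ι, IsSimple P Δ :=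
  let ⟨_, hS⟩ := exists_isPosSys P
  ⟨_, isSimple_indec hS⟩

theorem weylGroup_ext {g h : P.Aut} (hg : g ∈ P.weylGroup) (hh : h ∈ P.weylGroup)
    (e : ∀ i : ι, g • i = h • i) : g = h :=
  let ⟨_, hΔ⟩ := exists_isSimple P
  hΔ.eq_of_smul_eq hg hh fun i _ => e i

theorem weylGroup_finite : Finite P.weylGroup :=
  Finite.of_injective (fun g : P.weylGroup => fun i : ι => (g : P.Aut) • i) fun g h e =>
    Subtype.ext (weylGroup_ext P g.2 h.2 (congr_fun e))

theorem weylGroup_eq_closure_indiv :
    Subgroup.closure ((fun i : ι => RootPairing.Equiv.reflection P i) ''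
      {i : ι | ∀ j, (2 : ℤ) • P.root j ≠ P.root i}) = P.weylGroup := by
  obtain ⟨Δ, hΔ⟩ := exists_isSimple P
  refine le_antisymm ?_ ?_
  · rw [Subgroup.closure_le]
    rintro _ ⟨i, -, rfl⟩
    exact P.reflection_mem_weylGroup i
  · rw [← hΔ.weylGroup_eq]
    exact Subgroup.closure_mono (Set.image_mono fun i hi => hΔ.indiv hi)

end Groth.Agent.RootDatum
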