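import Groth.Agent.RootDatum.Exists

/-! Squared lengths and the proportionality between roots and coroots. -/

namespace Groth.Agent.RootDatum

open RootPairing Function Set

set_option linter.unusedSectionVars false

variable {ι R M N : Type*} [CommRing R] [CharZero R] [IsDomain R]
  [AddCommGroup M] [Module R M] [AddCommGroup N] [Module R N]
  (P : RootPairing ι R M N) [P.IsCrystallographic] [Fintype ι]

/-- The squared length of a root. -/
noncomputable def len (i : ι) : ℤ := ∑ l, P.pairingIn ℤ i l * P.pairingIn ℤ i l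

theorem len_pos (i : ι) : 0 < len P i := by
  refine Finset.sum_pos' (fun l _ => mul_self_nonneg _) ⟨i, Finset.mem_univ i, ?_⟩
  rw [pairingIn_self]; norm_num

theorem rootForm_self (i : ι) : P.RootForm (P.root i) (P.root i) = (len P i : R) := by
  simp [len, rootForm_apply_apply, pairing_eq_cast]

theorem rootForm_self_int {M N : Type*} [AddCommGroup M] [AddCommGroup N]
    (P : RootPairing ι ℤ M N) (i : ι) : P.RootForm (P.root i) (P.root i) = len P i := by
  rw [rootForm_self]; simp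

theorem corootForm_self_int {M N : Type*} [AddCommGroup M] [AddCommGroup N]
    (P : RootPairing ι ℤ M N) (i : ι) :
    P.CorootForm (P.coroot i) (P.coroot i) = len P.flip i :=
  rootForm_self_int P.flip i

theorem pairingIn_mul_len (i j : ι) :
    P.pairingIn ℤ j i * len P i = P.pairingIn ℤ i j * len P j := by
  have h := P.toInvariantForm.pairing_mul_eq_pairing_mul_swap i j
  simp only [toInvariantForm_form, rootForm_self, pairing_eq_cast] at h
  exact_mod_cast h

theorem len_smul (g : P.Aut) (i : ι) : len P (g • i) = len P i := by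
  refine (Fintype.sum_equiv (MulAction.toPerm g) _ _ fun l => ?_).symm
  simp only [MulAction.toPerm_apply, pairingIn_smul]

theorem len_smul_coroot_eq (i : ι) : len P i • P.coroot i = (2 : ℕ) • P.Polarization (P.root i) := by
  have h := P.rootForm_self_smul_coroot i
  rw [rootForm_self, Int.cast_smul_eq_zsmul] at h
  exact h

theorem len_smul_coroot {k : ι} {c : ι →₀ ℤ}
    (h : Finsupp.linearCombination ℤ P.root c = P.root k) :
    len P k • P.coroot k = c.sum fun j a => (a * len P j) • P.coroot j := by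
  rw [len_smul_coroot_eq, ← h, Finsupp.linearCombination_apply, Finsupp.sum, map_sum,
    Finset.smul_sum]
  refine Finset.sum_congr rfl fun j _ => ?_
  rw [map_zsmul, smul_comm, ← len_smul_coroot_eq, smul_smul]

theorem len_mul_coroot'_apply {M N : Type*} [AddCommGroup M] [AddCommGroup N]
    (P : RootPairing ι ℤ M N) {k : ι} {c : ι →₀ ℤ}
    (h : Finsupp.linearCombination ℤ P.root c = P.root k) (x : M) :
    len P k * P.coroot' k x = c.sum fun j a => a * len P j * P.coroot' j x := by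
  have := congrArg (P.toLinearMap x) (len_smul_coroot P h)
  simpa [Finsupp.sum, coroot'] using this

theorem IsSimple.coroot'_nonneg {M N : Type*} [AddCommGroup M] [AddCommGroup N]
    {P : RootPairing ι ℤ M N} {Δ : Set ι} (hΔ : IsSimple P Δ) {x : M}
    (hx : ∀ i ∈ Δ, 0 ≤ P.coroot' i x) {k : ι} (hk : k ∈ RootD.posOf P Δ) :
    0 ≤ P.coroot' k x := by
  refine nonneg_of_mul_nonneg_right ?_ (len_pos P k)
  rw [len_mul_coroot'_apply P (hΔ.lc_coeff k) x]
  refine Finset.sum_nonneg fun j hj => ?_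
  exact mul_nonneg (mul_nonneg (hΔ.mem_posOf_iff.mp hk j) (len_pos P j).le)
    (hx j (hΔ.coeff_support k hj))

theorem IsSimple.coroot'_pos {M N : Type*} [AddCommGroup M] [AddCommGroup N]
    {P : RootPairing ι ℤ M N} {Δ : Set ι} (hΔ : IsSimple P Δ) {x : M}
    (hx : ∀ i ∈ Δ, 0 < P.coroot' i x) {k : ι} (hk : k ∈ RootD.posOf P Δ) :
    0 < P.coroot' k x := by
  refine pos_of_mul_pos_right ?_ (len_pos P k).le
  rw [len_mul_coroot'_apply P (hΔ.lc_coeff k) x]
  obtain ⟨j, hj, hpos⟩ := hΔ.exists_coeff_pos hk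
  exact Finset.sum_pos'
    (fun l hl => mul_nonneg (mul_nonneg (hΔ.mem_posOf_iff.mp hk l) (len_pos P l).le)
      (hx l (hΔ.coeff_support k hl)).le)
    ⟨j, Finsupp.mem_support_iff.mpr hpos.ne', mul_pos (mul_pos hpos (len_pos P j)) (hx j hj)⟩

/-! ### the sum of the positive roots -/

theorem eq_or_two_reflect {Δ : Set ι} (hΔ : IsSimple P Δ) {k δ : ι}
    (hk : k ∈ RootD.posOf P Δ) (hδ : δ ∈ Δ) :
    (k = δ ∨ P.root k = (2 : ℤ) • P.root δ) ↔ P.reflectionPerm δ k ∉ RootD.posOf P Δ :=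
  ⟨hΔ.reflect_not_pos hδ, hΔ.eq_or_two_of_reflect hk hδ⟩

/-- Summing `pairingIn k δ` over the positive roots only sees the multiples of `δ`. -/
theorem sum_pairingIn_filter [DecidableEq ι] {Δ : Set ι} (hΔ : IsSimple P Δ) {δ : ι} (hδ : δ ∈ Δ)
    (S : Finset ι) (hS : ∀ k, k ∈ S ↔ k ∈ RootD.posOf P Δ) :
    ∑ k ∈ S, P.pairingIn ℤ k δ =
        ∑ k ∈ S.filter (fun k => P.reflectionPerm δ k ∉ S), P.pairingIn ℤ k δ ∧
    ∑ k ∈ S, P.pairingIn ℤ δ k =
        ∑ k ∈ S.filter (fun k => P.reflectionPerm δ k ∉ S), P.pairingIn ℤ δ k := by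
  classical
  have hneg1 : ∀ k, P.pairingIn ℤ (P.reflectionPerm δ k) δ = -P.pairingIn ℤ k δ := by
    intro k
    rw [← P.pairingIn_reflectionPerm ℤ δ k δ, P.pairingIn_reflectionPerm_self_right ℤ]
  have hneg2 : ∀ k, P.pairingIn ℤ δ (P.reflectionPerm δ k) = -P.pairingIn ℤ δ k := by
    intro k
    rw [P.pairingIn_reflectionPerm ℤ δ δ k, P.pairingIn_reflectionPerm_self_left ℤ]
  have key : ∀ f : ι → ℤ, (∀ k, f (P.reflectionPerm δ k) = -f k) →
      ∑ k ∈ S.filter (fun k => P.reflectionPerm δ k ∈ S), f k = 0 := by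
    intro f hf
    have h : ∑ k ∈ S.filter (fun k => P.reflectionPerm δ k ∈ S), f k =
        ∑ k ∈ S.filter (fun k => P.reflectionPerm δ k ∈ S), -f k := by
      refine Finset.sum_nbij' (P.reflectionPerm δ) (P.reflectionPerm δ) ?_ ?_ ?_ ?_ ?_ <;>
        simp +contextual [hf]
    rw [Finset.sum_neg_distrib] at h
    omega
  constructor
  · rw [← Finset.sum_filter_add_sum_filter_not S (fun k => P.reflectionPerm δ k ∈ S),
      key _ hneg1, zero_add]
  · rw [← Finset.sum_filter_add_sum_filter_not S (fun k => P.reflectionPerm δ k ∈ S),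
      key _ hneg2, zero_add]

theorem sum_pairingIn_pos {Δ : Set ι} (hΔ : IsSimple P Δ) {δ : ι} (hδ : δ ∈ Δ)
    (S : Finset ι) (hS : ∀ k, k ∈ S ↔ k ∈ RootD.posOf P Δ) :
    0 < ∑ k ∈ S, P.pairingIn ℤ k δ := by
  classical
  rw [(sum_pairingIn_filter P hΔ hδ S hS).1]
  have hmem : ∀ k ∈ S.filter (fun k => P.reflectionPerm δ k ∉ S), 0 < P.pairingIn ℤ k δ := by
    intro k hk
    rw [Finset.mem_filter, hS, hS] at hk
    rcases hΔ.eq_or_two_of_reflect hk.1 hδ hk.2 with rfl | e
    · rw [pairingIn_self]; norm_num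
    · have h := congrArg (P.coroot' δ) e
      simp only [map_zsmul, root_coroot'_eq_pairing, pairing_eq_cast, pairingIn_self,
        zsmul_eq_mul] at h
      have : P.pairingIn ℤ k δ = 2 * 2 := by exact_mod_cast h
      omega
  refine Finset.sum_pos hmem ⟨δ, ?_⟩
  rw [Finset.mem_filter, hS, hS]
  exact ⟨hΔ.mem_posOf_self hδ, hΔ.reflect_not_pos hδ (Or.inl rfl)⟩

theorem sum_pairingIn_reduced [P.IsReduced] {Δ : Set ι} (hΔ : IsSimple P Δ) {δ : ι} (hδ : δ ∈ Δ)
    (S : Finset ι) (hS : ∀ k, k ∈ S ↔ k ∈ RootD.posOf P Δ) :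
    ∑ k ∈ S, P.pairingIn ℤ k δ = 2 ∧ ∑ k ∈ S, P.pairingIn ℤ δ k = 2 := by
  classical
  have : S.filter (fun k => P.reflectionPerm δ k ∉ S) = {δ} := by
    ext k
    rw [Finset.mem_filter, hS, hS, Finset.mem_singleton]
    refine ⟨fun ⟨hk, hk'⟩ => ?_, ?_⟩
    · refine (hΔ.eq_or_two_of_reflect hk hδ hk').resolve_right fun e => ?_
      have := isAddTorsionFree_left P
      exact P.nsmul_notMem_range_root (n := 2) (i := δ) ⟨k, e.trans (ofNat_zsmul _ 2)⟩
    · rintro rfl
      exact ⟨hΔ.mem_posOf_self hδ, hΔ.reflect_not_pos hδ (Or.inl rfl)⟩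
  obtain ⟨h1, h2⟩ := sum_pairingIn_filter P hΔ hδ S hS
  rw [h1, h2, this, Finset.sum_singleton, Finset.sum_singleton, pairingIn_self]
  exact ⟨rfl, rfl⟩

end Groth.Agent.RootDatum
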