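import Groth.Agent.RootDatum.Sat
import Groth.Agent.RootDatum.Forms
import Mathlib.LinearAlgebra.Dimension.Torsion.Basic
import Mathlib.LinearAlgebra.FreeModule.PID

/-! Orthogonal decompositions and conjugates over the integers. -/

namespace Groth.Agent.RootDatum

open RootPairing Function Set

set_option linter.unusedSectionVars false

variable {ι M N : Type*} [AddCommGroup M] [AddCommGroup N]

theorem exists_smul_mem_of_finrank_eq {A : Type*} [AddCommGroup A] [Module.Finite ℤ A]
    {S : Submodule ℤ A} (h : Module.finrank ℤ S = Module.finrank ℤ A) (x : A) :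
    ∃ n : ℕ, 0 < n ∧ n • x ∈ S := by
  have h0 : Module.finrank ℤ (A ⧸ S) = 0 := by
    have := Submodule.finrank_quotient_add_finrank S
    omega
  obtain ⟨a, ha, hax⟩ := Module.finrank_eq_zero_iff.mp h0 (Submodule.Quotient.mk x)
  rw [← Submodule.Quotient.mk_smul, Submodule.Quotient.mk_eq_zero] at hax
  refine ⟨a.natAbs, Int.natAbs_pos.mpr ha, ?_⟩
  rcases Int.natAbs_eq a with e | e <;> rw [e] at hax
  · rwa [natCast_zsmul] at hax
  · rwa [neg_smul, Submodule.neg_mem_iff, natCast_zsmul] at hax

variable (P : RootPairing ι ℤ M N) [Finite ι]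

theorem coroot'_eq_zero_of_polarization [Fintype ι] {x : M} (h : P.Polarization x = 0) (l : ι) :
    P.coroot' l x = 0 := by
  have h0 := LinearMap.congr_fun ((P.polarization_apply_eq_zero_iff x).mp h) x
  rw [rootForm_apply_apply] at h0
  simpa using (Finset.sum_eq_zero_iff_of_nonneg fun i _ => mul_self_nonneg _).mp h0 l
    (Finset.mem_univ l)

/-- Rational orthogonal projection to the span of the roots. -/
theorem exists_smul_sub_orthogonal (x : M) :
    ∃ n : ℕ, 0 < n ∧ ∃ s ∈ Submodule.span ℤ (Set.range P.root),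
      ∀ l, P.coroot' l (n • x - s) = 0 := by
  cases nonempty_fintype ι
  set S := Submodule.span ℤ (Set.range P.root)
  have hT : ∀ y, P.CoPolarization (P.Polarization y) ∈ S := fun y => by
    rw [CoPolarization_apply]
    exact Submodule.sum_mem _ fun i _ => Submodule.smul_mem _ _ (Submodule.subset_span ⟨i, rfl⟩)
  have hco : ∀ y, P.CoPolarization (P.Polarization y) = 0 → P.Polarization y = 0 := fun y hy =>
    eq_zero_of_mem_span_of_coroot' P.flip
      (by rw [Polarization_apply]
          exact Submodule.sum_mem _ fun i _ => Submodule.smul_mem _ _ (Submodule.subset_span ⟨i, rfl⟩))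
      fun l => coroot'_eq_zero_of_polarization P.flip (x := P.Polarization y) hy l
  let T : S →ₗ[ℤ] S := ((P.CoPolarization ∘ₗ P.Polarization).domRestrict S).codRestrict S
    fun y => hT y
  have hTinj : Injective T := by
    rw [← LinearMap.ker_eq_bot, LinearMap.ker_eq_bot']
    intro y hy
    have hy' : P.CoPolarization (P.Polarization (y : M)) = 0 := congrArg Subtype.val hy
    exact Subtype.ext (eq_zero_of_mem_span_of_coroot' P y.2
      (coroot'_eq_zero_of_polarization P (hco _ hy')))
  have : Module.Finite ℤ S := Module.Finite.span_of_finite ℤ (Set.finite_range _)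
  obtain ⟨n, hn, s, hs⟩ :=
    exists_smul_mem_of_finrank_eq (LinearMap.finrank_range_of_inj hTinj)
      (⟨_, hT x⟩ : S)
  refine ⟨n, hn, s, s.2, coroot'_eq_zero_of_polarization P (hco _ ?_)⟩
  have hs' : P.CoPolarization (P.Polarization (s : M)) = n • P.CoPolarization (P.Polarization x) :=
    congrArg Subtype.val hs
  rw [map_sub, map_nsmul, map_sub, map_nsmul, hs', sub_self]

theorem finrank_ker_add_finrank_span [Module.Finite ℤ M] :
    Module.finrank ℤ (⨅ i : ι, LinearMap.ker (P.coroot' i) : Submodule ℤ M) +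
      Module.finrank ℤ (Submodule.span ℤ (Set.range P.root)) = Module.finrank ℤ M := by
  set K : Submodule ℤ M := ⨅ i : ι, LinearMap.ker (P.coroot' i)
  set S := Submodule.span ℤ (Set.range P.root)
  have hK : ∀ y, y ∈ K ↔ ∀ l, P.coroot' l y = 0 := fun y => by
    simp [K, Submodule.mem_iInf]
  let Φ : (K × S) →ₗ[ℤ] M := LinearMap.coprod K.subtype S.subtype
  have hinj : Injective Φ := by
    rw [← LinearMap.ker_eq_bot, LinearMap.ker_eq_bot']
    rintro ⟨a, b⟩ hab
    have hab' : (a : M) + (b : M) = 0 := hab
    have hb : (b : M) = 0 := eq_zero_of_mem_span_of_coroot' P b.2 fun l => by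
      have := congrArg (P.coroot' l) hab'
      rwa [map_add, (hK _).mp a.2 l, zero_add, map_zero] at this
    rw [hb, add_zero] at hab'
    exact Prod.ext (Subtype.ext hab') (Subtype.ext hb)
  have : Module.IsReflexive ℤ M := .of_isPerfPair P.toLinearMap
  have h1 : Module.finrank ℤ (LinearMap.range Φ) = Module.finrank ℤ M := by
    have h0 : Module.finrank ℤ (M ⧸ LinearMap.range Φ) = 0 := by
      refine Module.finrank_eq_zero_iff.mpr fun q => ?_
      induction q using Submodule.Quotient.induction_on with
      | _ x =>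
        obtain ⟨n, hn, s, hs, hd⟩ := exists_smul_sub_orthogonal P x
        refine ⟨(n : ℤ), by exact_mod_cast hn.ne', ?_⟩
        rw [← Submodule.Quotient.mk_smul, Submodule.Quotient.mk_eq_zero]
        exact ⟨(⟨n • x - s, (hK _).mpr hd⟩, ⟨s, hs⟩),
          (show (n • x - s) + s = (n : ℤ) • x by rw [natCast_zsmul]; abel)⟩
    have := Submodule.finrank_quotient_add_finrank (LinearMap.range Φ)
    omega
  rw [← h1, LinearMap.finrank_range_of_inj hinj, Module.finrank_prod]

/-- An element of the span fixed by nothing but zero: automorphisms fixing all roots. -/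
theorem aut_eq_one_of_fix {u : P.Aut}
    (hs : ∀ m : M, ∃ n : ℕ, 0 < n ∧ n • (u • m - m) ∈ Submodule.span ℤ (Set.range P.root))
    (hfix : ∀ i : ι, u • i = i) : u = 1 := by
  have := isAddTorsionFree_left P
  refine aut_ext P fun m => ?_
  obtain ⟨n, hn, hm⟩ := hs m
  have h0 := eq_zero_of_mem_span_of_coroot' P hm fun l => by
    have := smul_coroot' P u l m
    rw [hfix] at this
    rw [map_nsmul, map_sub, this, sub_self, smul_zero]
  rw [one_smul]
  exact sub_eq_zero.mp ((smul_eq_zero.mp h0).resolve_left hn.ne')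

theorem exists_conj_pairing_ne_zero {i b : ι}
    (hb : Relation.ReflTransGen (fun a b : ι => ¬ P.IsOrthogonal a b) i b) :
    ∃ g : P.Aut, g ∈ P.weylGroup ∧ P.pairing (g • i) b ≠ 0 := by
  induction hb with
  | refl => exact ⟨1, one_mem _, by rw [one_smul, P.pairing_same]; norm_num⟩
  | @tail a b _ hab ih =>
    obtain ⟨g, hg, hne⟩ := ih
    by_cases hb0 : P.pairing (g • i) b = 0
    · refine ⟨RootPairing.Equiv.reflection P a * g,
        mul_mem (P.reflection_mem_weylGroup a) hg, ?_⟩
      rw [mul_smul, reflection_smul_index, ← P.root_coroot'_eq_pairing, root_reflect, map_sub,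
        map_zsmul, P.root_coroot'_eq_pairing, P.root_coroot'_eq_pairing, hb0, pairingIn_int,
        zero_sub, neg_ne_zero, smul_eq_mul]
      exact mul_ne_zero hne fun h => hab ⟨h, (P.pairing_eq_zero_iff').mp h⟩
    · exact ⟨g, hg, hb0⟩

theorem connected_of_irreducible
    (hirr : ∀ R' : Set ι, RootD.IsClosedSub P R' → RootD.IsSymmSub P R' → RootD.IsClosedSub P R'ᶜ →
      RootD.IsSymmSub P R'ᶜ → R' = ∅ ∨ R' = Set.univ) (i j : ι) :
    Relation.ReflTransGen (fun a b : ι => ¬ P.IsOrthogonal a b) i j := by
  set C := {j : ι | Relation.ReflTransGen (fun a b : ι => ¬ P.IsOrthogonal a b) i j}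
  have hneg : ∀ a : ι, ¬ P.IsOrthogonal a (P.reflectionPerm a a) := fun a h => by
    have := h.1; simp at this
  have hneg' : ∀ a : ι, ¬ P.IsOrthogonal (P.reflectionPerm a a) a := fun a h => hneg a h.symm
  have hadd : ∀ {a b k : ι}, P.root k = P.root a + P.root b →
      ¬ P.IsOrthogonal a k ∨ ¬ P.IsOrthogonal b k := by
    intro a b k e
    by_contra! h
    have h2 := RootPairing.pairing_eq_add_of_root_eq_add (l := k) e
    rw [P.pairing_same, h.1.1, h.2.1] at h2
    norm_num at h2
  have hC := (hirr C (fun a b k ha hb e => (hadd e).elim (fun h => ha.tail h) fun h => hb.tail h)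
    (fun a ha => ha.tail (hneg a))
    (fun a b k ha hb e hk => (hadd e).elim (fun h => ha (hk.tail fun h' => h h'.symm))
      fun h => hb (hk.tail fun h' => h h'.symm))
    (fun a ha hn => ha (hn.tail (hneg' a)))).resolve_left fun he =>
      Set.eq_empty_iff_forall_notMem.mp he i Relation.ReflTransGen.refl
  exact Set.eq_univ_iff_forall.mp hC j

end Groth.Agent.RootDatum
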