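import Groth.Agent.RootDatum.Basic
import Mathlib.LinearAlgebra.RootSystem.Base

/-! Systems of positive roots and their systems of simple roots. -/

namespace Groth.Agent.RootDatum

open RootPairing Function Set

set_option linter.unusedSectionVars false

variable {ι R M N : Type*} [CommRing R] [CharZero R] [IsDomain R]
  [AddCommGroup M] [Module R M] [AddCommGroup N] [Module R N]
  (P : RootPairing ι R M N) [P.IsCrystallographic]

/-- A system of simple roots, with linear independence over the integers. -/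
structure IsSimple (Δ : Set ι) : Prop where
  linInd : LinearIndepOn ℤ P.root Δ
  mem_or_neg_mem : ∀ i : ι, P.root i ∈ RootD.natSpan P Δ ∨ -P.root i ∈ RootD.natSpan P Δ

theorem isSimple_of_isSimpleSys {Δ : Set ι} (h : RootD.IsSimpleSys P Δ) : IsSimple P Δ :=
  ⟨h.linInd.restrict_scalars' ℤ, h.mem_or_neg_mem⟩

theorem isSimple_of_base (b : P.Base) : IsSimple P (b.support : Set ι) :=
  ⟨b.linearIndepOn_root.restrict_scalars' ℤ, b.root_mem_or_neg_mem⟩

theorem isSimpleSys_int_iff {M N : Type*} [AddCommGroup M] [AddCommGroup N]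
    (P : RootPairing ι ℤ M N) {Δ : Set ι} : RootD.IsSimpleSys P Δ ↔ IsSimple P Δ :=
  ⟨fun h => ⟨h.linInd, h.mem_or_neg_mem⟩, fun h => ⟨h.linInd, h.mem_or_neg_mem⟩⟩

/-- Indecomposable elements of a set of roots. -/
def indec (S : Set ι) : Set ι :=
  {k | k ∈ S ∧ ¬∃ i j, i ∈ S ∧ j ∈ S ∧ P.root k = P.root i + P.root j}

theorem indec_subset (S : Set ι) : indec P S ⊆ S := fun _ h => h.1

section Simple

variable {P}

theorem natSpan_eq_lc {Δ : Set ι} {x : M} (hx : x ∈ RootD.natSpan P Δ) :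
    ∃ c : ι →₀ ℤ, ↑c.support ⊆ Δ ∧ (∀ j, 0 ≤ c j) ∧ Finsupp.linearCombination ℤ P.root c = x := by
  classical
  induction hx using AddSubmonoid.closure_induction with
  | mem x hx =>
    obtain ⟨i, hi, rfl⟩ := hx
    refine ⟨Finsupp.single i 1, ?_, fun j => ?_, by simp⟩
    · exact (Finset.coe_subset.mpr Finsupp.support_single_subset).trans (by simpa using hi)
    · rcases eq_or_ne j i with rfl | hj
      · simp
      · simp [hj]
  | zero => exact ⟨0, by simp, fun j => by simp, by simp⟩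
  | add x y _ _ hx hy =>
    obtain ⟨c, hc, hc0, rfl⟩ := hx
    obtain ⟨d, hd, hd0, rfl⟩ := hy
    refine ⟨c + d, ?_, fun j => ?_, map_add _ _ _⟩
    · refine (Finset.coe_subset.mpr Finsupp.support_add).trans ?_
      rw [Finset.coe_union]; exact union_subset hc hd
    · rw [Finsupp.add_apply]; exact add_nonneg (hc0 j) (hd0 j)

theorem lc_mem_natSpan {Δ : Set ι} {c : ι →₀ ℤ} (hc : ↑c.support ⊆ Δ) (h0 : ∀ j, 0 ≤ c j) :
    Finsupp.linearCombination ℤ P.root c ∈ RootD.natSpan P Δ := by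
  rw [Finsupp.linearCombination_apply, Finsupp.sum]
  refine AddSubmonoid.sum_mem _ fun j hj => ?_
  obtain ⟨n, hn⟩ := Int.eq_ofNat_of_zero_le (h0 j)
  rw [hn, natCast_zsmul]
  exact AddSubmonoid.nsmul_mem _ (root_mem_natSpan P (hc hj)) n

variable {Δ : Set ι}

theorem IsSimple.lc_inj (hΔ : IsSimple P Δ) {c d : ι →₀ ℤ} (hc : ↑c.support ⊆ Δ)
    (hd : ↑d.support ⊆ Δ)
    (h : Finsupp.linearCombination ℤ P.root c = Finsupp.linearCombination ℤ P.root d) : c = d := by
  have h' := linearIndepOn_iff.mp hΔ.linInd (c - d)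
    (Submodule.sub_mem _ ((Finsupp.mem_supported _ _).mpr hc) ((Finsupp.mem_supported _ _).mpr hd))
    (by rw [map_sub, h, sub_self])
  exact sub_eq_zero.mp h'

theorem IsSimple.exists_coeff (hΔ : IsSimple P Δ) (k : ι) :
    ∃ c : ι →₀ ℤ, ↑c.support ⊆ Δ ∧ Finsupp.linearCombination ℤ P.root c = P.root k := by
  rcases hΔ.mem_or_neg_mem k with h | h
  · obtain ⟨c, hc, -, e⟩ := natSpan_eq_lc h
    exact ⟨c, hc, e⟩
  · obtain ⟨c, hc, -, e⟩ := natSpan_eq_lc h
    exact ⟨-c, by rwa [Finsupp.support_neg], by rw [map_neg, e, neg_neg]⟩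

/-- Coordinates of a root with respect to a simple system. -/
noncomputable def IsSimple.coeff (hΔ : IsSimple P Δ) (k : ι) : ι →₀ ℤ :=
  (hΔ.exists_coeff k).choose

theorem IsSimple.coeff_support (hΔ : IsSimple P Δ) (k : ι) : ↑(hΔ.coeff k).support ⊆ Δ :=
  (hΔ.exists_coeff k).choose_spec.1

theorem IsSimple.lc_coeff (hΔ : IsSimple P Δ) (k : ι) :
    Finsupp.linearCombination ℤ P.root (hΔ.coeff k) = P.root k :=
  (hΔ.exists_coeff k).choose_spec.2

theorem IsSimple.coeff_eq (hΔ : IsSimple P Δ) {k : ι} {c : ι →₀ ℤ} (hc : ↑c.support ⊆ Δ)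
    (h : Finsupp.linearCombination ℤ P.root c = P.root k) : hΔ.coeff k = c :=
  hΔ.lc_inj (hΔ.coeff_support k) hc (by rw [hΔ.lc_coeff, h])

theorem IsSimple.coeff_self (hΔ : IsSimple P Δ) {i : ι} (hi : i ∈ Δ) :
    hΔ.coeff i = Finsupp.single i 1 :=
  hΔ.coeff_eq ((Finset.coe_subset.mpr Finsupp.support_single_subset).trans (by simpa using hi))
    (by simp)

theorem IsSimple.coeff_of_root_eq (hΔ : IsSimple P Δ) {k i j : ι} {a b : ℤ}
    (h : P.root k = a • P.root i + b • P.root j) :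
    hΔ.coeff k = a • hΔ.coeff i + b • hΔ.coeff j := by
  refine hΔ.coeff_eq ?_ (by rw [map_add, map_smul, map_smul, hΔ.lc_coeff, hΔ.lc_coeff, h])
  have := Submodule.add_mem (Finsupp.supported ℤ ℤ Δ)
    (Submodule.smul_mem _ a ((Finsupp.mem_supported _ _).mpr (hΔ.coeff_support i)))
    (Submodule.smul_mem _ b ((Finsupp.mem_supported _ _).mpr (hΔ.coeff_support j)))
  exact (Finsupp.mem_supported _ _).mp this

theorem IsSimple.coeff_add (hΔ : IsSimple P Δ) {k i j : ι}
    (h : P.root k = P.root i + P.root j) : hΔ.coeff k = hΔ.coeff i + hΔ.coeff j := by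
  have := hΔ.coeff_of_root_eq (k := k) (i := i) (j := j) (a := 1) (b := 1) (by simpa using h)
  simpa using this

theorem IsSimple.coeff_zsmul (hΔ : IsSimple P Δ) {k i : ι} {a : ℤ}
    (h : P.root k = a • P.root i) : hΔ.coeff k = a • hΔ.coeff i := by
  simpa using hΔ.coeff_of_root_eq (k := k) (i := i) (j := i) (a := a) (b := 0) (by simpa using h)

theorem IsSimple.coeff_neg (hΔ : IsSimple P Δ) (k : ι) :
    hΔ.coeff (P.reflectionPerm k k) = -hΔ.coeff k := by
  simpa using hΔ.coeff_zsmul (k := P.reflectionPerm k k) (i := k) (a := -1) (by simp)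

theorem IsSimple.coeff_reflect (hΔ : IsSimple P Δ) (i j : ι) :
    hΔ.coeff (P.reflectionPerm i j) = hΔ.coeff j - P.pairingIn ℤ j i • hΔ.coeff i := by
  have := hΔ.coeff_of_root_eq (k := P.reflectionPerm i j) (i := j) (j := i) (a := 1)
    (b := -P.pairingIn ℤ j i) (by rw [root_reflect, one_smul, neg_smul, sub_eq_add_neg])
  simpa [sub_eq_add_neg] using this

theorem IsSimple.coeff_ne_zero (hΔ : IsSimple P Δ) (k : ι) : hΔ.coeff k ≠ 0 := by
  intro h
  have := hΔ.lc_coeff k
  rw [h, map_zero] at this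
  exact P.ne_zero k this.symm

theorem IsSimple.mem_posOf_iff (hΔ : IsSimple P Δ) {k : ι} :
    k ∈ RootD.posOf P Δ ↔ ∀ j, 0 ≤ hΔ.coeff k j := by
  refine ⟨fun h => ?_, fun h => ?_⟩
  · obtain ⟨c, hc, h0, e⟩ := natSpan_eq_lc h
    rw [hΔ.coeff_eq hc e]; exact h0
  · show P.root k ∈ RootD.natSpan P Δ
    rw [← hΔ.lc_coeff k]
    exact lc_mem_natSpan (hΔ.coeff_support k) h

theorem IsSimple.coeff_nonneg_or_nonpos (hΔ : IsSimple P Δ) (k : ι) :
    (∀ j, 0 ≤ hΔ.coeff k j) ∨ (∀ j, hΔ.coeff k j ≤ 0) := by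
  rcases hΔ.mem_or_neg_mem k with h | h
  · exact Or.inl (hΔ.mem_posOf_iff.mp h)
  · right
    intro j
    have h' : P.reflectionPerm k k ∈ RootD.posOf P Δ := by
      show P.root _ ∈ RootD.natSpan P Δ; rw [root_neg]; exact h
    have := hΔ.mem_posOf_iff.mp h' j
    rw [hΔ.coeff_neg, Finsupp.neg_apply] at this
    omega

theorem IsSimple.pos_of_coeff_pos (hΔ : IsSimple P Δ) {k j : ι} (h : 0 < hΔ.coeff k j) :
    k ∈ RootD.posOf P Δ := by
  rcases hΔ.coeff_nonneg_or_nonpos k with h' | h'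
  · exact hΔ.mem_posOf_iff.mpr h'
  · exact absurd (h' j) (by omega)

theorem IsSimple.mem_posOf_self (_hΔ : IsSimple P Δ) {i : ι} (hi : i ∈ Δ) :
    i ∈ RootD.posOf P Δ :=
  root_mem_natSpan P hi

theorem IsSimple.exists_coeff_pos (hΔ : IsSimple P Δ) {k : ι} (hk : k ∈ RootD.posOf P Δ) :
    ∃ j ∈ Δ, 0 < hΔ.coeff k j := by
  obtain ⟨j, hj⟩ := Finsupp.ne_iff.mp (hΔ.coeff_ne_zero k)
  refine ⟨j, hΔ.coeff_support k (Finsupp.mem_support_iff.mpr (by simpa using hj)), ?_⟩
  have := hΔ.mem_posOf_iff.mp hk j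
  simp only [Finsupp.coe_zero, Pi.zero_apply] at hj
  omega

theorem IsSimple.isClosedSub_posOf (_hΔ : IsSimple P Δ) :
    RootD.IsClosedSub P (RootD.posOf P Δ) := by
  intro i j k hi hj e
  show P.root k ∈ RootD.natSpan P Δ
  rw [e]; exact add_mem hi hj

theorem IsSimple.posOf_disjoint (hΔ : IsSimple P Δ) ⦃i : ι⦄ (hi : i ∈ RootD.posOf P Δ) :
    P.reflectionPerm i i ∉ RootD.posOf P Δ := by
  intro h
  obtain ⟨j, -, hj⟩ := hΔ.exists_coeff_pos hi
  have := hΔ.mem_posOf_iff.mp h j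
  rw [hΔ.coeff_neg, Finsupp.neg_apply] at this
  omega

theorem IsSimple.posOf_cover (hΔ : IsSimple P Δ) (i : ι) :
    i ∈ RootD.posOf P Δ ∨ P.reflectionPerm i i ∈ RootD.posOf P Δ := by
  refine (hΔ.mem_or_neg_mem i).imp id fun h => ?_
  show P.root _ ∈ RootD.natSpan P Δ
  rwa [root_neg]

theorem IsSimple.neg_mem_iff (hΔ : IsSimple P Δ) {i : ι} :
    P.reflectionPerm i i ∈ RootD.posOf P Δ ↔ i ∉ RootD.posOf P Δ :=
  ⟨fun h hi => hΔ.posOf_disjoint hi h, fun h => (hΔ.posOf_cover i).resolve_left h⟩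

theorem IsSimple.neg_not_mem (hΔ : IsSimple P Δ) {i : ι} (hi : i ∈ Δ) :
    P.reflectionPerm i i ∉ RootD.posOf P Δ :=
  hΔ.posOf_disjoint (hΔ.mem_posOf_self hi)

/-- The height of a root. -/
noncomputable def IsSimple.height (hΔ : IsSimple P Δ) (k : ι) : ℤ :=
  (hΔ.coeff k).sum fun _ a => a

theorem IsSimple.height_add (hΔ : IsSimple P Δ) {k i j : ι}
    (h : P.root k = P.root i + P.root j) : hΔ.height k = hΔ.height i + hΔ.height j := by
  classical
  simp only [IsSimple.height, hΔ.coeff_add h]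
  exact Finsupp.sum_add_index (by simp) (by simp)

theorem IsSimple.height_self (hΔ : IsSimple P Δ) {i : ι} (hi : i ∈ Δ) : hΔ.height i = 1 := by
  simp [IsSimple.height, hΔ.coeff_self hi]

theorem IsSimple.height_pos (hΔ : IsSimple P Δ) {k : ι} (hk : k ∈ RootD.posOf P Δ) :
    0 < hΔ.height k := by
  obtain ⟨j, -, hj⟩ := hΔ.exists_coeff_pos hk
  exact Finset.sum_pos' (fun x _ => hΔ.mem_posOf_iff.mp hk x)
    ⟨j, Finsupp.mem_support_iff.mpr hj.ne', hj⟩

theorem IsSimple.indiv (hΔ : IsSimple P Δ) {i : ι} (hi : i ∈ Δ) (j : ι) :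
    (2 : ℤ) • P.root j ≠ P.root i := by
  intro h
  have h' := hΔ.coeff_zsmul (k := i) (i := j) h.symm
  rw [hΔ.coeff_self hi] at h'
  have := congrArg (fun c => c i) h'
  simp only [Finsupp.single_eq_same, Finsupp.coe_smul, Pi.smul_apply, smul_eq_mul] at this
  omega

theorem IsSimple.not_sum_of_mem (hΔ : IsSimple P Δ) {k : ι} (hk : k ∈ Δ) :
    ¬∃ i j, i ∈ RootD.posOf P Δ ∧ j ∈ RootD.posOf P Δ ∧ P.root k = P.root i + P.root j := by
  rintro ⟨i, j, hi, hj, e⟩
  have := hΔ.height_add e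
  rw [hΔ.height_self hk] at this
  have := hΔ.height_pos hi
  have := hΔ.height_pos hj
  omega

variable [Finite ι]

theorem IsSimple.exists_sum_of_not_mem (hΔ : IsSimple P Δ) {k : ι}
    (hk : k ∈ RootD.posOf P Δ) (hkΔ : k ∉ Δ) :
    ∃ i j, i ∈ RootD.posOf P Δ ∧ j ∈ Δ ∧ P.root k = P.root i + P.root j := by
  obtain ⟨s, hs, h⟩ := (mem_natSpan_iff P).mp hk
  suffices k ∈ Δ ∨ ∃ i j, i ∈ RootD.posOf P Δ ∧ j ∈ Δ ∧ P.root k = P.root i + P.root j from
    this.resolve_left hkΔ
  have : k ∈ RootD.posOf P Δ ∧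
      (k ∈ Δ ∨ ∃ i j, i ∈ RootD.posOf P Δ ∧ j ∈ Δ ∧ P.root k = P.root i + P.root j) := by
    refine chain_induction P
      (p := fun k => k ∈ RootD.posOf P Δ ∧
        (k ∈ Δ ∨ ∃ i j, i ∈ RootD.posOf P Δ ∧ j ∈ Δ ∧ P.root k = P.root i + P.root j))
      s h (fun a ha => ⟨hΔ.mem_posOf_self (hs a ha), Or.inl (hs a ha)⟩) ?_
    intro i j k' hi hj e
    exact ⟨hΔ.isClosedSub_posOf hi.1 (hΔ.mem_posOf_self (hs j hj)) e,
      Or.inr ⟨i, j, hi.1, hs j hj, e⟩⟩
  exact this.2

/-- Induction on positive roots. -/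
theorem IsSimple.pos_induction (hΔ : IsSimple P Δ) {p : ι → Prop} (base : ∀ i ∈ Δ, p i)
    (step : ∀ k i j, i ∈ RootD.posOf P Δ → j ∈ Δ → P.root k = P.root i + P.root j → p i → p k)
    {k : ι} (hk : k ∈ RootD.posOf P Δ) : p k := by
  induction hn : (hΔ.height k).toNat using Nat.strong_induction_on generalizing k with
  | _ n ih =>
    by_cases hkΔ : k ∈ Δ
    · exact base k hkΔ
    obtain ⟨i, j, hi, hj, e⟩ := hΔ.exists_sum_of_not_mem hk hkΔ
    have h1 := hΔ.height_add e
    have := hΔ.height_self hj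
    have := hΔ.height_pos hi
    exact step k i j hi hj e (ih _ (by omega) hi rfl)

theorem IsSimple.indec_posOf (hΔ : IsSimple P Δ) : indec P (RootD.posOf P Δ) = Δ := by
  ext k
  refine ⟨fun ⟨hk, hn⟩ => ?_, fun hk => ⟨hΔ.mem_posOf_self hk, hΔ.not_sum_of_mem hk⟩⟩
  by_contra hkΔ
  obtain ⟨i, j, hi, hj, e⟩ := hΔ.exists_sum_of_not_mem hk hkΔ
  exact hn ⟨i, j, hi, hΔ.mem_posOf_self hj, e⟩

theorem IsSimple.pairingIn_nonpos (hΔ : IsSimple P Δ) {i j : ι} (hi : i ∈ Δ) (hj : j ∈ Δ)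
    (hij : i ≠ j) : P.pairingIn ℤ i j ≤ 0 := by
  classical
  by_contra! h
  obtain ⟨k, hk⟩ := exists_root_sub_of_pairingIn_pos P h hij
  have hc := hΔ.coeff_of_root_eq (k := k) (i := i) (j := j) (a := 1) (b := -1)
    (by rw [hk, one_smul, neg_smul, one_smul, sub_eq_add_neg])
  rw [hΔ.coeff_self hi, hΔ.coeff_self hj] at hc
  have hci : hΔ.coeff k i = 1 := by simp [hc, hij]
  have hcj : hΔ.coeff k j = -1 := by simp [hc, hij.symm]
  rcases hΔ.coeff_nonneg_or_nonpos k with h' | h'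
  · linarith [h' j]
  · linarith [h' i]

theorem IsSimple.isPosSys_posOf (hΔ : IsSimple P Δ) : RootD.IsPosSys P (RootD.posOf P Δ) := by
  refine ⟨hΔ.posOf_disjoint, hΔ.posOf_cover, fun k n hn hk => ?_⟩
  have hle : RootD.natSpan P (RootD.posOf P Δ) ≤ RootD.natSpan P Δ :=
    natSpan_le P fun i hi => hi
  obtain ⟨c, hc, h0, e⟩ := natSpan_eq_lc (hle hk)
  have hcn : (n : ℤ) • hΔ.coeff k = c := by
    refine hΔ.lc_inj ?_ hc (by rw [map_smul, hΔ.lc_coeff, e, natCast_zsmul])
    exact (Finset.coe_subset.mpr Finsupp.support_smul).trans (hΔ.coeff_support k)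
  rw [hΔ.mem_posOf_iff]
  intro j
  have hj := h0 j
  rw [← hcn, Finsupp.smul_apply, smul_eq_mul] at hj
  exact nonneg_of_mul_nonneg_right hj (by exact_mod_cast hn)

end Simple

/-! ### positive systems -/

variable [Finite ι]

theorem isPosSys_of_closed {S : Set ι} (hd : ∀ ⦃i⦄, i ∈ S → P.reflectionPerm i i ∉ S)
    (hcov : ∀ i, i ∈ S ∨ P.reflectionPerm i i ∈ S) (hc : RootD.IsClosedSub P S) :
    RootD.IsPosSys P S := by
  refine ⟨hd, hcov, fun k n hn hk => ?_⟩
  by_contra hkS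
  have hk' := (hcov k).resolve_left hkS
  obtain ⟨m, rfl⟩ := Nat.exists_eq_succ_of_ne_zero hn.ne'
  refine root_add_ne_zero P hc hd hk'
    (y := (m + 1) • P.root k + m • P.root (P.reflectionPerm k k))
    (add_mem hk (AddSubmonoid.nsmul_mem _ (root_mem_natSpan P hk') m)) ?_
  rw [root_neg, smul_neg, add_smul, one_smul]; abel

theorem isClosedSub_of_isPosSys {S : Set ι} (hS : RootD.IsPosSys P S) :
    RootD.IsClosedSub P S := by
  intro i j k hi hj e
  refine hS.sat 1 one_pos ?_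
  rw [one_smul, e]
  exact add_mem (root_mem_natSpan P hi) (root_mem_natSpan P hj)

section PosSys

variable {P} {S : Set ι}

theorem posSys_indec_pairwise (hS : RootD.IsPosSys P S) {i j : ι} (hi : i ∈ indec P S)
    (hj : j ∈ indec P S) (hij : i ≠ j) : P.pairingIn ℤ i j ≤ 0 := by
  by_contra! h
  obtain ⟨k, hk⟩ := exists_root_sub_of_pairingIn_pos P h hij
  rcases hS.cover k with hkS | hkS
  · exact hi.2 ⟨k, j, hkS, hj.1, by rw [hk]; abel⟩
  · exact hj.2 ⟨P.reflectionPerm k k, i, hkS, hi.1, by rw [root_neg, hk]; abel⟩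

theorem posSys_mem_natSpan_indec (hS : RootD.IsPosSys P S) {k : ι} (hk : k ∈ S) :
    P.root k ∈ RootD.natSpan P (indec P S) := by
  have hc := isClosedSub_of_isPosSys P hS
  let r : ι → ι → Prop := fun i k =>
    ∃ a ∈ S, ∃ y ∈ RootD.natSpan P S, P.root k = P.root i + (P.root a + y)
  have : IsTrans ι r := ⟨by
    rintro i j k ⟨a, ha, y, hy, e⟩ ⟨b, hb, z, hz, e'⟩
    exact ⟨a, ha, y + (P.root b + z), add_mem hy (add_mem (root_mem_natSpan P hb) hz),
      by rw [e', e]; abel⟩⟩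
  have : Std.Irrefl r := ⟨by
    rintro i ⟨a, ha, y, hy, e⟩
    exact root_add_ne_zero P hc hS.disjoint ha hy (by simpa using e)⟩
  induction k using (Finite.wellFounded_of_trans_of_irrefl r).induction with
  | _ k ih =>
    by_cases h : k ∈ indec P S
    · exact root_mem_natSpan P h
    obtain ⟨i, j, hi, hj, e⟩ := not_not.mp fun h' => h ⟨hk, h'⟩
    rw [e]
    refine add_mem (ih i ⟨j, hj, 0, zero_mem _, by rw [e, add_zero]⟩ hi)
      (ih j ⟨i, hi, 0, zero_mem _, by rw [e, add_zero, add_comm]⟩ hj)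

theorem linearIndepOn_of_obtuse (hc : RootD.IsClosedSub P S)
    (hd : ∀ ⦃i⦄, i ∈ S → P.reflectionPerm i i ∉ S) {Δ : Set ι} (hΔS : Δ ⊆ S)
    (hp : Δ.Pairwise fun i j => P.pairingIn ℤ i j ≤ 0) : LinearIndepOn ℤ P.root Δ := by
  classical
  cases nonempty_fintype ι
  rw [linearIndepOn_iff]
  intro c hc' h0
  rw [Finsupp.mem_supported] at hc'
  let B := P.posRootForm ℤ
  let ip : ι → ι → ℤ := fun a b => ∑ l, P.pairingIn ℤ a l * P.pairingIn ℤ b l
  have hip : ∀ a b, a ≠ b → a ∈ Δ → b ∈ Δ → ip a b ≤ 0 := by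
    intro a b hab ha hb
    have h1 := B.toInvariantForm.two_mul_apply_root_root a b
    have h2 : ∀ x y : ι, B.form (P.root x) (P.root y) = ((ip x y : ℤ) : R) := by
      intro x y
      simp [B, posRootForm, ip, rootForm_apply_apply, pairing_eq_cast]
    simp only [RootPositiveForm.toInvariantForm_form, h2, pairing_eq_cast] at h1
    have h3 : 2 * ip a b = P.pairingIn ℤ a b * ip b b := by exact_mod_cast h1
    have h4 : 0 ≤ ip b b := Finset.sum_nonneg fun l _ => mul_self_nonneg _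
    have h5 := hp ha hb hab
    nlinarith
  -- positive and negative parts
  let p : ι → ℤ := fun a => max (c a) 0
  let q : ι → ℤ := fun a => max (-c a) 0
  let v : ι → ℤ := fun l => ∑ a, p a * P.pairingIn ℤ a l
  have hv : ∀ l, v l = ∑ a, q a * P.pairingIn ℤ a l := by
    intro l
    have := coroot'_linearCombination P c l
    rw [h0, map_zero, Finsupp.sum_fintype _ _ (by simp)] at this
    have h' : ∑ a, c a * P.pairingIn ℤ a l = 0 := by exact_mod_cast this.symm
    rw [← sub_eq_zero, ← h', ← Finset.sum_sub_distrib]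
    refine Finset.sum_congr rfl fun a _ => ?_
    rw [← sub_mul]; congr 1
    simp only [p, q]; omega
  have hvsq : ∑ l, v l * v l ≤ 0 := by
    have e : ∀ l, v l * v l =
        ∑ a, ∑ b, p a * q b * (P.pairingIn ℤ a l * P.pairingIn ℤ b l) := by
      intro l
      calc v l * v l = (∑ a, p a * P.pairingIn ℤ a l) * (∑ b, q b * P.pairingIn ℤ b l) := by
            rw [← hv l]
        _ = _ := by
            rw [Finset.sum_mul_sum]
            exact Finset.sum_congr rfl fun a _ => Finset.sum_congr rfl fun b _ => by ring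
    rw [Finset.sum_congr rfl fun l _ => e l, Finset.sum_comm]
    refine Finset.sum_nonpos fun a _ => ?_
    rw [Finset.sum_comm]
    refine Finset.sum_nonpos fun b _ => ?_
    rw [← Finset.mul_sum]
    by_cases hab : p a * q b = 0
    · rw [hab, zero_mul]
    have hpa : p a ≠ 0 := left_ne_zero_of_mul hab
    have hqb : q b ≠ 0 := right_ne_zero_of_mul hab
    refine mul_nonpos_of_nonneg_of_nonpos (mul_nonneg (le_max_right _ _) (le_max_right _ _)) ?_
    refine hip a b ?_ (hc' ?_) (hc' ?_)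
    · rintro rfl; simp only [p, q] at hpa hqb; omega
    · rw [Finset.mem_coe, Finsupp.mem_support_iff]; simp only [p] at hpa; omega
    · rw [Finset.mem_coe, Finsupp.mem_support_iff]; simp only [q] at hqb; omega
  have hv0 : ∀ l, v l = 0 := fun l => by
    have := (Finset.sum_eq_zero_iff_of_nonneg fun l _ => mul_self_nonneg (v l)).mp
      (le_antisymm hvsq (Finset.sum_nonneg fun l _ => mul_self_nonneg (v l))) l (Finset.mem_univ l)
    simpa using this
  -- each part has zero coefficients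
  have key : ∀ w : ι → ℤ, (∀ a, 0 ≤ w a) → (∀ a, w a ≠ 0 → a ∈ Δ) →
      (∀ l, ∑ a, w a * P.pairingIn ℤ a l = 0) → ∀ a, w a = 0 := by
    intro w hw hwΔ hwz a
    by_contra ha
    let d : ι →₀ ℤ := Finsupp.equivFunOnFinite.symm fun x => if x = a then w x - 1 else w x
    have hdS : ↑d.support ⊆ S := fun x hx => by
      rw [Finset.mem_coe, Finsupp.mem_support_iff] at hx
      by_cases hxa : x = a
      · exact hxa ▸ hΔS (hwΔ a ha)
      · exact hΔS (hwΔ x (by simpa [d, hxa] using hx))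
    have hd0 : ∀ x, 0 ≤ d x := fun x => by
      by_cases hxa : x = a
      · have := hw a; simp [d, hxa]; omega
      · simpa [d, hxa] using hw x
    obtain ⟨l, hl⟩ := exists_coroot'_add_ne_zero P hc hd (hΔS (hwΔ a ha))
      (lc_mem_natSpan (P := P) hdS hd0)
    apply hl
    rw [map_add, coroot'_linearCombination, root_coroot'_eq_pairing, pairing_eq_cast,
      Finsupp.sum_fintype _ _ (by simp), ← Int.cast_add, Int.cast_eq_zero, ← hwz l]
    have : ∑ x, d x * P.pairingIn ℤ x l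
        = ∑ x, (w x * P.pairingIn ℤ x l - if x = a then P.pairingIn ℤ x l else 0) := by
      refine Finset.sum_congr rfl fun x _ => ?_
      by_cases hxa : x = a <;> simp [d, hxa, sub_mul]
    rw [this, Finset.sum_sub_distrib, Finset.sum_ite_eq' Finset.univ a, if_pos (Finset.mem_univ a)]
    ring
  have hmem : ∀ a, c a ≠ 0 → a ∈ Δ := fun a ha =>
    hc' (Finset.mem_coe.mpr (Finsupp.mem_support_iff.mpr ha))
  have hp0 := key p (fun a => le_max_right _ _)
    (fun a ha => hmem a (by simp only [p] at ha; omega)) hv0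
  have hq0 := key q (fun a => le_max_right _ _)
    (fun a ha => hmem a (by simp only [q] at ha; omega)) (fun l => (hv l).symm.trans (hv0 l))
  ext a
  have h1 := hp0 a
  have h2 := hq0 a
  simp only [p, q] at h1 h2
  simp only [Finsupp.coe_zero, Pi.zero_apply]
  omega

theorem isSimple_indec (hS : RootD.IsPosSys P S) : IsSimple P (indec P S) := by
  refine ⟨linearIndepOn_of_obtuse (isClosedSub_of_isPosSys P hS) hS.disjoint (indec_subset P S)
    (fun i hi j hj hij => posSys_indec_pairwise hS hi hj hij), fun i => ?_⟩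
  rcases hS.cover i with h | h
  · exact Or.inl (posSys_mem_natSpan_indec hS h)
  · exact Or.inr (root_neg P i ▸ posSys_mem_natSpan_indec hS h)

theorem posOf_eq_of_subset {Δ : Set ι} (hΔ : IsSimple P Δ) (hS : RootD.IsPosSys P S)
    (h : Δ ⊆ S) : RootD.posOf P Δ = S := by
  have hsub : ∀ k ∈ RootD.posOf P Δ, k ∈ S := fun k hk =>
    mem_of_root_mem_natSpan P (isClosedSub_of_isPosSys P hS) (natSpan_mono P h hk)
  refine Set.ext fun k => ⟨hsub k, fun hk => ?_⟩
  exact (hΔ.posOf_cover k).resolve_right fun hn => hS.disjoint hk (hsub _ hn)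

theorem posOf_indec (hS : RootD.IsPosSys P S) : RootD.posOf P (indec P S) = S :=
  posOf_eq_of_subset (isSimple_indec hS) hS (indec_subset P S)

theorem eq_indec_of_subset {Δ : Set ι} (hΔ : IsSimple P Δ) (hS : RootD.IsPosSys P S)
    (h : Δ ⊆ S) : Δ = indec P S := by
  rw [← posOf_eq_of_subset hΔ hS h, hΔ.indec_posOf]

end PosSys

end Groth.Agent.RootDatum

namespace Groth.Agent.RootDatum

open RootPairing Function Set

variable {ι R M N : Type*} [CommRing R] [CharZero R] [IsDomain R]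
  [AddCommGroup M] [Module R M] [AddCommGroup N] [Module R N]
  (P : RootPairing ι R M N) [P.IsCrystallographic]


theorem isPos_iff_mem_posOf (b : P.Base) {k : ι} :
    b.IsPos k ↔ k ∈ RootD.posOf P (b.support : Set ι) := by
  classical
  have key : ∀ x : ι, x ∈ RootD.posOf P (b.support : Set ι) → b.IsPos x := by
    intro x hx
    obtain ⟨c, hc, h0, e⟩ := natSpan_eq_lc hx
    have e' : P.root x = ∑ j ∈ b.support, c j • P.root j := by
      rw [← e, Finsupp.linearCombination_apply]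
      exact Finsupp.sum_of_support_subset _ (by simpa using hc) _ (by simp)
    rw [b.isPos_iff', RootPairing.Base.height_eq_sum e']
    exact Finset.sum_nonneg fun j _ => h0 j
  refine ⟨fun h => ?_, key k⟩
  refine (b.root_mem_or_neg_mem k).resolve_right fun hn => ?_
  have h' : b.IsPos (P.reflectionPerm k k) := key _ (by
    show P.root _ ∈ RootD.natSpan P (b.support : Set ι); rw [root_neg]; exact hn)
  exact (RootPairing.Base.IsPos.neg_iff_not b k).mp h' h

end Groth.Agent.RootDatum
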