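import Mathlib.LinearAlgebra.RootSystem.Base
import Mathlib.LinearAlgebra.QuadraticForm.Basic

/-! Quadratic forms on the coweight module invariant under coreflections. -/

namespace Groth.Agent.RootDatum

open RootPairing

variable {ι R M N : Type*} [CommRing R] [AddCommGroup M] [Module R M] [AddCommGroup N] [Module R N]
  (P : RootPairing ι R M N) (Q : QuadraticMap R N R)

theorem apply_coreflection (j : ι) (y : N) :
    Q (P.coreflection j y) = Q y +
      P.root' j y * (P.root' j y * Q (P.coroot j) - QuadraticMap.polar Q y (P.coroot j)) := by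
  rw [coreflection_apply, sub_eq_add_neg, ← neg_smul, QuadraticMap.map_add Q, QuadraticMap.map_smul,
    QuadraticMap.polar_smul_right]
  simp only [smul_eq_mul]
  ring

/-- Invariance on a submodule containing the coroot is a linear condition. -/
theorem invariant_iff_polar [IsDomain R] [CharZero R] (j : ι) (D : Submodule R N)
    (hj : P.coroot j ∈ D) :
    (∀ y ∈ D, Q (P.coreflection j y) = Q y) ↔
      ∀ y ∈ D, QuadraticMap.polar Q y (P.coroot j) = P.root' j y * Q (P.coroot j) := by
  refine ⟨fun h y hy => ?_, fun h y hy => ?_⟩
  · have key : ∀ z ∈ D, P.root' j z = 0 ∨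
        QuadraticMap.polar Q z (P.coroot j) = P.root' j z * Q (P.coroot j) := by
      intro z hz
      have := h z hz
      rw [apply_coreflection, add_eq_left, mul_eq_zero, sub_eq_zero] at this
      exact this.imp_right Eq.symm
    rcases key y hy with h0 | h0
    swap; · exact h0
    rcases key (y + P.coroot j) (add_mem hy hj) with h1 | h1
    · rw [map_add, h0, root'_coroot_eq_pairing, pairing_same, zero_add] at h1
      exact absurd h1 two_ne_zero
    · rw [QuadraticMap.polar_add_left, QuadraticMap.polar_self, map_add, h0,
        root'_coroot_eq_pairing, pairing_same, zero_add] at h1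
      rw [h0, zero_mul]
      simpa using h1
  · rw [apply_coreflection, h y hy, sub_self, mul_zero, add_zero]

theorem invariant_iff_polar' [IsDomain R] [CharZero R] (j : ι) :
    (∀ y : N, Q (P.coreflection j y) = Q y) ↔
      ∀ y : N, QuadraticMap.polar Q y (P.coroot j) = P.root' j y * Q (P.coroot j) := by
  simpa using invariant_iff_polar P Q j ⊤ trivial

/-- A linear functional on the submodule generated up to torsion by the coroots is determined by
its values on the coroots. -/
theorem eq_of_eqOn_coroots [IsDomain R] [CharZero R] (D : Submodule R N)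
    (hDsat : ∀ y ∈ D, ∃ n : ℕ, 0 < n ∧ n • y ∈ Submodule.span R (Set.range P.coroot))
    {f g : N →ₗ[R] R} (h : ∀ i, f (P.coroot i) = g (P.coroot i)) {y : N} (hy : y ∈ D) :
    f y = g y := by
  obtain ⟨n, hn, hm⟩ := hDsat y hy
  have := LinearMap.eqOn_span (f := f) (g := g) (by rintro _ ⟨i, rfl⟩; exact h i) hm
  rw [map_nsmul, map_nsmul, nsmul_eq_mul, nsmul_eq_mul] at this
  exact mul_left_cancel₀ (Nat.cast_ne_zero.mpr hn.ne') this

theorem invariant_span_of_simple [CharZero R] [IsDomain R] [Finite ι] [P.IsCrystallographic] [P.IsReduced] (b : P.Base)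
    (h : ∀ j ∈ b.support, ∀ y ∈ Submodule.span R (Set.range P.coroot),
      Q (P.coreflection j y) = Q y) (i : ι) :
    ∀ y ∈ Submodule.span R (Set.range P.coroot), Q (P.coreflection i y) = Q y := by
  have hst : ∀ j, ∀ y ∈ Submodule.span R (Set.range P.coroot),
      P.coreflection j y ∈ Submodule.span R (Set.range P.coroot) := fun j y hy => by
    rw [coreflection_apply]
    exact sub_mem hy (Submodule.smul_mem _ _ (Submodule.subset_span ⟨j, rfl⟩))
  refine b.induction_reflect i (fun k hk y hy => ?_) h (fun k j hk hj y hy => ?_)
  · rw [coreflection_eq_flip_reflection, show P.reflectionPerm k k = P.flip.reflectionPerm k k from rfl,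
      reflection_reflectionPerm]
    simp only [LinearEquiv.mul_apply, ← coreflection_eq_flip_reflection]
    rw [coreflection_same, hk y hy]
  · rw [coreflection_eq_flip_reflection, show P.reflectionPerm j k = P.flip.reflectionPerm j k from rfl,
      reflection_reflectionPerm]
    simp only [LinearEquiv.mul_apply, ← coreflection_eq_flip_reflection]
    rw [h j hj _ (hst k _ (hst j y hy)), hk _ (hst j y hy), h j hj y hy]

end Groth.Agent.RootDatum
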