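import Groth.Agent.RootDatum.Exists
import Mathlib.LinearAlgebra.Dual.Lemmas

/-! Saturation, lexicographic positive systems, extreme rays. -/

namespace Groth.Agent.RootDatum

open RootPairing Function Set

set_option linter.unusedSectionVars false

variable {ι R M N : Type*} [CommRing R] [CharZero R] [IsDomain R]
  [AddCommGroup M] [Module R M] [AddCommGroup N] [Module R N]
  (P : RootPairing ι R M N) [P.IsCrystallographic] [Finite ι]

theorem eq_zero_of_mem_span_of_coroot' {x : M} (hx : x ∈ Submodule.span ℤ (Set.range P.root))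
    (h : ∀ l, P.coroot' l x = 0) : x = 0 := by
  cases nonempty_fintype ι
  by_contra hne
  have hne' : (⟨x, hx⟩ : P.rootSpan ℤ) ≠ 0 := fun e => hne (congrArg Subtype.val e)
  have := P.posRootForm_posForm_pos_of_ne_zero ℤ hne'
  rw [posRootForm_posForm_apply_apply] at this
  refine this.ne' (Finset.sum_eq_zero fun l _ => ?_)
  have h0 : P.coroot'In ℤ l ⟨x, hx⟩ = 0 :=
    FaithfulSMul.algebraMap_injective ℤ R (by rw [algebraMap_coroot'In_apply, map_zero]; exact h l)
  rw [h0, mul_zero]

/-- Vector of pairings with all coroots. -/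
noncomputable def wt (w : ι →₀ ℤ) (k : ι) : ℤ := w.sum fun l a => a * P.pairingIn ℤ k l

theorem wt_neg (w : ι →₀ ℤ) (k : ι) : wt P w (P.reflectionPerm k k) = -wt P w k := by
  simp only [wt, P.pairingIn_reflectionPerm_self_left ℤ, mul_neg, Finsupp.sum,
    Finset.sum_neg_distrib]

theorem wt_add {i j k : ι} (e : P.root k = P.root i + P.root j) (w : ι →₀ ℤ) :
    wt P w k = wt P w i + wt P w j := by
  simp only [wt, Finsupp.sum, ← Finset.sum_add_distrib, ← mul_add]
  exact Finset.sum_congr rfl fun l _ => by rw [pairingIn_eq_add_of_root_eq_add e]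

theorem wt_combine (m : ℤ) (w v : ι →₀ ℤ) (k : ι) :
    wt P (m • w + v) k = m * wt P w k + wt P v k := by
  simp only [wt]
  rw [Finsupp.sum_add_index' (by simp) (fun _ _ _ => add_mul _ _ _),
    Finsupp.sum_smul_index (by simp)]
  simp only [mul_assoc, ← Finsupp.mul_sum]

theorem wt_eq_coroot' (w : ι →₀ ℤ) (k : ι) :
    (wt P w k : R) = w.sum fun l a => a • P.coroot' l (P.root k) := by
  simp [wt, Finsupp.sum, pairing_eq_cast]

theorem exists_separating_one (T : Set ι) {k : ι}
    (hk : ¬∃ n : ℕ, 0 < n ∧ n • P.root k ∈ Submodule.span ℤ (P.root '' T)) :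
    ∃ w : ι →₀ ℤ, (∀ t ∈ T, wt P w t = 0) ∧ wt P w k ≠ 0 := by
  classical
  cases nonempty_fintype ι
  let v : ι → (ι → ℚ) := fun a l => (P.pairingIn ℤ a l : ℚ)
  have hnot : v k ∉ Submodule.span ℚ (v '' T) := by
    intro hmem
    obtain ⟨c, hcT, hc⟩ := (Finsupp.mem_span_image_iff_linearCombination ℚ).mp hmem
    obtain ⟨⟨D, hD⟩, hint⟩ := IsLocalization.exist_integer_multiples (nonZeroDivisors ℤ)
      Finset.univ (fun a => c a)
    have hD0 : D ≠ 0 := mem_nonZeroDivisors_iff_ne_zero.mp hD
    choose e he using fun a => hint a (Finset.mem_univ a)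
    have he' : ∀ a, (e a : ℚ) = (D : ℚ) * c a := fun a => by simpa using he a
    let x : M := D • P.root k - ∑ a, e a • P.root a
    have hx : x ∈ Submodule.span ℤ (Set.range P.root) :=
      sub_mem (Submodule.smul_mem _ _ (Submodule.subset_span (mem_range_self k)))
        (Submodule.sum_mem _ fun a _ =>
          Submodule.smul_mem _ _ (Submodule.subset_span (mem_range_self a)))
    have hx0 : x = 0 := by
      refine eq_zero_of_mem_span_of_coroot' P hx fun l => ?_
      have h1 : ∑ a, c a * (P.pairingIn ℤ a l : ℚ) = P.pairingIn ℤ k l := by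
        have := congrFun hc l
        rw [Finsupp.linearCombination_apply, Finsupp.sum_fintype _ _ (by simp)] at this
        simpa [v, Finset.sum_apply] using this
      have h2 : ∑ a, e a * P.pairingIn ℤ a l = D * P.pairingIn ℤ k l := by
        have : (∑ a, e a * P.pairingIn ℤ a l : ℚ) = D * P.pairingIn ℤ k l := by
          rw [← h1, Finset.mul_sum]
          exact Finset.sum_congr rfl fun a _ => by rw [he', mul_assoc]
        exact_mod_cast this
      simp only [x, map_sub, map_sum, map_zsmul, root_coroot'_eq_pairing, pairing_eq_cast,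
        zsmul_eq_mul]
      norm_cast
      rw [h2, sub_self]
    have hDk : D • P.root k ∈ Submodule.span ℤ (P.root '' T) := by
      rw [sub_eq_zero.mp hx0]
      refine Submodule.sum_mem _ fun a _ => ?_
      by_cases ha : a ∈ T
      · exact Submodule.smul_mem _ _ (Submodule.subset_span ⟨a, ha, rfl⟩)
      · have : c a = 0 := by
          by_contra h0
          exact ha (((Finsupp.mem_supported _ _).mp hcT) (Finsupp.mem_support_iff.mpr h0))
        have : e a = 0 := by
          have h3 := he' a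
          rw [this, mul_zero] at h3
          exact_mod_cast h3
        simp [this]
    rcases Int.natAbs_eq D with h | h <;> rw [h] at hDk
    · exact hk ⟨D.natAbs, Int.natAbs_pos.mpr hD0, by rwa [natCast_zsmul] at hDk⟩
    · rw [neg_smul, Submodule.neg_mem_iff, natCast_zsmul] at hDk
      exact hk ⟨D.natAbs, Int.natAbs_pos.mpr hD0, hDk⟩
  obtain ⟨f, hfk, hfT⟩ := Submodule.exists_dual_map_eq_bot_of_notMem hnot inferInstance
  obtain ⟨⟨D, hD⟩, hint⟩ := IsLocalization.exist_integer_multiples (nonZeroDivisors ℤ)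
    Finset.univ (fun l => f (fun m => if l = m then 1 else 0))
  have hD0 : D ≠ 0 := mem_nonZeroDivisors_iff_ne_zero.mp hD
  choose e he using fun l => hint l (Finset.mem_univ l)
  have he' : ∀ l, (e l : ℚ) = (D : ℚ) * f (fun m => if l = m then 1 else 0) := fun l => by
    simpa using he l
  refine ⟨Finsupp.equivFunOnFinite.symm e, ?_⟩
  have key : ∀ a, (wt P (Finsupp.equivFunOnFinite.symm e) a : ℚ) = D * f (v a) := by
    intro a
    rw [wt, Finsupp.sum_fintype _ _ (by simp), pi_eq_sum_univ (v a), map_sum, Finset.mul_sum]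
    push_cast
    refine Finset.sum_congr rfl fun l _ => ?_
    rw [map_smul, smul_eq_mul, Finsupp.coe_equivFunOnFinite_symm, he']
    simp only [v]; ring
  refine ⟨fun t ht => ?_, fun h => ?_⟩
  · have h0 : f (v t) = 0 := by
      have : f (v t) ∈ Submodule.map f (Submodule.span ℚ (v '' T)) :=
        Submodule.mem_map_of_mem (Submodule.subset_span ⟨t, ht, rfl⟩)
      rw [hfT] at this
      exact (Submodule.mem_bot ℚ).mp this
    have := key t
    rw [h0, mul_zero] at this
    exact_mod_cast this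
  · have := key k
    rw [h, Int.cast_zero, eq_comm, mul_eq_zero] at this
    exact this.elim (fun h => hD0 (by exact_mod_cast h)) hfk

/-- An integral linear form vanishing exactly on the roots in the rational span of `T`. -/
theorem exists_separating (T : Set ι) :
    ∃ w : ι →₀ ℤ, ∀ k, wt P w k = 0 ↔
      ∃ n : ℕ, 0 < n ∧ n • P.root k ∈ Submodule.span ℤ (P.root '' T) := by
  classical
  cases nonempty_fintype ι
  suffices ∀ U : Finset ι, ∃ w : ι →₀ ℤ, (∀ t ∈ T, wt P w t = 0) ∧ ∀ k ∈ U,
      (¬∃ n : ℕ, 0 < n ∧ n • P.root k ∈ Submodule.span ℤ (P.root '' T)) → wt P w k ≠ 0 by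
    obtain ⟨w, hw, hw'⟩ := this Finset.univ
    refine ⟨w, fun k => ⟨fun h => by_contra fun hc => hw' k (Finset.mem_univ k) hc h, ?_⟩⟩
    rintro ⟨n, hn, hmem⟩
    obtain ⟨c, hc, e⟩ := (Finsupp.mem_span_image_iff_linearCombination ℤ).mp hmem
    rw [Finsupp.mem_supported] at hc
    have hsum : (n : ℤ) * wt P w k = c.sum fun j a => a * wt P w j := by
      simp only [wt, Finsupp.sum, Finset.mul_sum]
      rw [Finset.sum_comm]
      refine Finset.sum_congr rfl fun l _ => ?_
      have h1 := coroot'_linearCombination P c l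
      rw [e, map_nsmul, root_coroot'_eq_pairing, pairing_eq_cast, nsmul_eq_mul] at h1
      have h2 : (n : ℤ) * P.pairingIn ℤ k l = c.sum fun j a => a * P.pairingIn ℤ j l := by
        exact_mod_cast h1
      rw [mul_left_comm, h2, Finsupp.sum, Finset.mul_sum]
      exact Finset.sum_congr rfl fun j _ => by ring
    have h0 : (c.sum fun j a => a * wt P w j) = 0 :=
      Finset.sum_eq_zero fun j hj => by simp only [hw j (hc hj), mul_zero]
    rw [h0] at hsum
    exact (mul_eq_zero.mp hsum).resolve_left (by exact_mod_cast hn.ne')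
  intro U
  induction U using Finset.induction_on with
  | empty => exact ⟨0, fun t _ => by simp [wt], by simp⟩
  | @insert k U _ ih =>
    obtain ⟨w, hw, hw'⟩ := ih
    by_cases hk : ∃ n : ℕ, 0 < n ∧ n • P.root k ∈ Submodule.span ℤ (P.root '' T)
    · refine ⟨w, hw, fun j hj hj' => ?_⟩
      rcases Finset.mem_insert.mp hj with rfl | hj
      exacts [absurd hk hj', hw' j hj hj']
    obtain ⟨v, hv, hvk⟩ := exists_separating_one P T hk
    obtain ⟨m, hm⟩ := exists_int_avoid (fun j => wt P w j) (fun j => wt P v j)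
    refine ⟨m • w + v, fun t ht => by rw [wt_combine, hw t ht, hv t ht]; ring, fun j hj hj' => ?_⟩
    rw [wt_combine]
    refine hm j ?_
    rcases Finset.mem_insert.mp hj with rfl | hj
    exacts [Or.inr hvk, Or.inl (hw' j hj hj')]

/-- Lexicographic positive system: positive for the form, ties broken by `T`. -/
theorem isPosSys_lex (w : ι →₀ ℤ) {T : Set ι}
    (hd : ∀ k, wt P w k = 0 → k ∈ T → P.reflectionPerm k k ∉ T)
    (hcov : ∀ k, wt P w k = 0 → k ∈ T ∨ P.reflectionPerm k k ∈ T)
    (hc : ∀ i j k, wt P w i = 0 → wt P w j = 0 → i ∈ T → j ∈ T →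
      P.root k = P.root i + P.root j → k ∈ T) :
    RootD.IsPosSys P {k | 0 < wt P w k ∨ (wt P w k = 0 ∧ k ∈ T)} := by
  refine isPosSys_of_closed P (fun k hk hk' => ?_) (fun k => ?_) fun i j k hi hj e => ?_
  · simp only [mem_ofPred_eq, wt_neg, neg_eq_zero] at hk hk'
    rcases hk with h | ⟨h, hT⟩ <;> rcases hk' with h' | ⟨h', hT'⟩
    · omega
    · omega
    · omega
    · exact hd k h hT hT'
  · simp only [mem_ofPred_eq, wt_neg, neg_eq_zero]
    rcases lt_trichotomy (wt P w k) 0 with h | h | h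
    · exact Or.inr (Or.inl (by omega))
    · exact (hcov k h).imp (fun hT => Or.inr ⟨h, hT⟩) (fun hT => Or.inr ⟨h, hT⟩)
    · exact Or.inl (Or.inl h)
  · simp only [mem_ofPred_eq, wt_add P e w] at *
    rcases hi with h | ⟨h, hT⟩ <;> rcases hj with h' | ⟨h', hT'⟩
    · exact Or.inl (by omega)
    · exact Or.inl (by omega)
    · exact Or.inl (by omega)
    · exact Or.inr ⟨by omega, hc i j k h h' hT hT' e⟩

theorem isPosSys_lex' (w : ι →₀ ℤ) {T : Set ι} (hT : RootD.IsPosSys P T) :
    RootD.IsPosSys P {k | 0 < wt P w k ∨ (wt P w k = 0 ∧ k ∈ T)} :=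
  isPosSys_lex P w (fun k _ h => hT.disjoint h) (fun k _ => hT.cover k)
    fun _ _ _ _ _ hi hj e => isClosedSub_of_isPosSys P hT hi hj e

/-- In a positive system adapted to `w`, the simple roots occurring in a root with `w = 0` also
have `w = 0`. -/
theorem IsSimple.wt_eq_zero_of_coeff {P : RootPairing ι R M N} [P.IsCrystallographic] {Δ : Set ι}
    (hΔ : IsSimple P Δ) {w : ι →₀ ℤ} (hw : ∀ δ ∈ Δ, 0 ≤ wt P w δ) {k : ι}
    (hk : wt P w k = 0) {j : ι} (hj : hΔ.coeff k j ≠ 0) : wt P w j = 0 := by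
  have key : wt P w k = (hΔ.coeff k).sum fun x a => a * wt P w x := by
    simp only [wt, Finsupp.sum, Finset.mul_sum]
    rw [Finset.sum_comm]
    refine Finset.sum_congr rfl fun l _ => ?_
    have h1 := coroot'_linearCombination P (hΔ.coeff k) l
    rw [hΔ.lc_coeff, root_coroot'_eq_pairing, pairing_eq_cast] at h1
    rw [Int.cast_inj.mp h1, Finsupp.sum, Finset.mul_sum]
    exact Finset.sum_congr rfl fun j _ => by ring
  rw [hk] at key
  have hmem : j ∈ (hΔ.coeff k).support := Finsupp.mem_support_iff.mpr hj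
  rcases hΔ.coeff_nonneg_or_nonpos k with h | h
  · have := (Finset.sum_eq_zero_iff_of_nonneg fun x hx =>
      mul_nonneg (h x) (hw x (hΔ.coeff_support k hx))).mp key.symm j hmem
    exact (mul_eq_zero.mp this).resolve_left hj
  · have := (Finset.sum_eq_zero_iff_of_nonpos fun x hx =>
      mul_nonpos_of_nonpos_of_nonneg (h x) (hw x (hΔ.coeff_support k hx))).mp key.symm j hmem
    exact (mul_eq_zero.mp this).resolve_left hj

/-- The roots in the rational span of part of a simple system. -/
theorem IsSimple.sat_iff {P : RootPairing ι R M N} [P.IsCrystallographic] {Δ : Set ι}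
    (hΔ : IsSimple P Δ) {Δ' : Set ι} (hsub : Δ' ⊆ Δ) (k : ι) :
    (∃ n : ℕ, 0 < n ∧ n • P.root k ∈ Submodule.span ℤ (P.root '' Δ')) ↔
      ↑(hΔ.coeff k).support ⊆ Δ' := by
  refine ⟨fun ⟨n, hn, hm⟩ => ?_, fun h => ⟨1, one_pos, ?_⟩⟩
  · obtain ⟨c, hc, e⟩ := (Finsupp.mem_span_image_iff_linearCombination ℤ).mp hm
    rw [Finsupp.mem_supported] at hc
    have hcn : c = (n : ℤ) • hΔ.coeff k := hΔ.lc_inj (hc.trans hsub)
      ((Finset.coe_subset.mpr Finsupp.support_smul).trans (hΔ.coeff_support k))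
      (by rw [map_smul, hΔ.lc_coeff, e, natCast_zsmul])
    intro j hj
    refine hc (Finset.mem_coe.mpr (Finsupp.mem_support_iff.mpr ?_))
    rw [hcn, Finsupp.smul_apply, smul_eq_mul]
    exact mul_ne_zero (by exact_mod_cast hn.ne') (Finsupp.mem_support_iff.mp hj)
  · rw [one_smul, ← hΔ.lc_coeff k]
    exact (Finsupp.mem_span_image_iff_linearCombination ℤ).mpr
      ⟨_, (Finsupp.mem_supported _ _).mpr h, rfl⟩

theorem IsSimple.span_iff {P : RootPairing ι R M N} [P.IsCrystallographic] {Δ : Set ι}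
    (hΔ : IsSimple P Δ) {Δ' : Set ι} (hsub : Δ' ⊆ Δ) (k : ι) :
    P.root k ∈ Submodule.span ℤ (P.root '' Δ') ↔ ↑(hΔ.coeff k).support ⊆ Δ' := by
  rw [← hΔ.sat_iff hsub k]
  refine ⟨fun h => ⟨1, one_pos, by rwa [one_smul]⟩, fun h => ?_⟩
  rw [← hΔ.lc_coeff k]
  exact (Finsupp.mem_span_image_iff_linearCombination ℤ).mpr
    ⟨_, (Finsupp.mem_supported _ _).mpr ((hΔ.sat_iff hsub k).mp h), rfl⟩

/-- `j` is proportional to `k`. -/
def Prop' (j k : ι) : Prop := ∃ a b : ℤ, b ≠ 0 ∧ b • P.root j = a • P.root k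

/-- A simple root is an indivisible positive root spanning an extreme ray. -/
theorem mem_indec_iff {S : Set ι} (hS : RootD.IsPosSys P S) (k : ι) :
    k ∈ indec P S ↔ k ∈ S ∧ (∀ j, (2 : ℤ) • P.root j ≠ P.root k) ∧
      ∀ n : ℕ, 0 < n → n • P.root k ∉ RootD.natSpan P {j | j ∈ S ∧ ¬Prop' P j k} := by
  classical
  have hΔ := isSimple_indec hS
  have hpos := posOf_indec hS
  constructor
  · intro hk
    refine ⟨hk.1, hΔ.indiv hk, fun n hn hmem => ?_⟩
    obtain ⟨s, hs, e⟩ := (mem_natSpan_iff P).mp hmem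
    obtain ⟨a, ha⟩ : ∃ a, a ∈ s := by
      refine Multiset.exists_mem_of_ne_zero fun h0 => ?_
      rw [h0, Multiset.map_zero, Multiset.sum_zero] at e
      have := isAddTorsionFree_left P
      exact P.ne_zero k ((smul_eq_zero.mp e.symm).resolve_left hn.ne')
    have hcoeff : (s.map hΔ.coeff).sum = (n : ℤ) • hΔ.coeff k := by
      refine hΔ.lc_inj ?_
        ((Finset.coe_subset.mpr Finsupp.support_smul).trans (hΔ.coeff_support k)) ?_
      · refine (Finsupp.mem_supported ℤ _).mp (multiset_sum_mem _ ?_)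
        intro x hx
        obtain ⟨y, -, rfl⟩ := Multiset.mem_map.mp hx
        exact (Finsupp.mem_supported _ _).mpr (hΔ.coeff_support y)
      · rw [map_multiset_sum, Multiset.map_map, map_smul, hΔ.lc_coeff, natCast_zsmul, ← e]
        exact congrArg Multiset.sum (Multiset.map_congr rfl fun y _ => hΔ.lc_coeff y)
    have hz : ∀ j, j ≠ k → hΔ.coeff a j = 0 := by
      intro j hj
      have h1 := DFunLike.congr_fun hcoeff j
      rw [hΔ.coeff_self hk, Finsupp.smul_apply, Finsupp.single_eq_of_ne hj, smul_zero] at h1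
      have h2 : (s.map fun y => hΔ.coeff y j).sum = 0 := by
        rw [← h1, ← Finsupp.applyAddHom_apply j (s.map hΔ.coeff).sum, map_multiset_sum,
          Multiset.map_map]
        rfl
      have hnn : ∀ y ∈ s, 0 ≤ hΔ.coeff y j := fun y hy =>
        hΔ.mem_posOf_iff.mp (hpos.symm ▸ (hs y hy).1) j
      obtain ⟨t, rfl⟩ := Multiset.exists_cons_of_mem ha
      rw [Multiset.map_cons, Multiset.sum_cons] at h2
      have : 0 ≤ (t.map fun y => hΔ.coeff y j).sum := Multiset.sum_nonneg fun x hx => by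
        obtain ⟨y, hy, rfl⟩ := Multiset.mem_map.mp hx
        exact hnn y (Multiset.mem_cons_of_mem hy)
      have := hnn a (Multiset.mem_cons_self a t)
      omega
    exact (hs a ha).2 ⟨_, 1, one_ne_zero, by rw [one_smul]; exact hΔ.root_eq_of_coeff_single hz⟩
  · rintro ⟨hk, hind, hext⟩
    by_contra hkΔ
    refine hext 1 one_pos ?_
    rw [one_smul]
    refine natSpan_mono P ?_ (posSys_mem_natSpan_indec hS hk)
    rintro δ hδ
    refine ⟨hδ.1, fun ⟨a, b, hb, e⟩ => hkΔ ?_⟩
    suffices δ = k by rwa [← this]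
    rcases zsmul_root_cases P hb e with ⟨e, -⟩ | ⟨e, -⟩ | ⟨e, -⟩ | ⟨e, -⟩ | ⟨e, -⟩ | ⟨e, -⟩
    · exact P.root.injective e
    · exact absurd (P.root_eq_neg_iff.mp e ▸ hδ.1) (hS.disjoint hk)
    · exact absurd e.symm (hΔ.indiv hδ k)
    · exact absurd (by rw [root_neg, e, smul_neg, neg_smul]) (hΔ.indiv hδ (P.reflectionPerm k k))
    · exact absurd e.symm (hind δ)
    · exact absurd (by rw [root_neg, e, smul_neg, neg_smul]) (hind (P.reflectionPerm δ δ))

end Groth.Agent.RootDatum
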