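import Groth.Agent.RootDatum.PosSys

/-! The Weyl group: exchange condition, generation by simple reflections, simple transitivity. -/

namespace Groth.Agent.RootDatum

open RootPairing Function Set

set_option linter.unusedSectionVars false

variable {ι R M N : Type*} [CommRing R] [CharZero R] [IsDomain R]
  [AddCommGroup M] [Module R M] [AddCommGroup N] [Module R N]
  (P : RootPairing ι R M N) [P.IsCrystallographic]

section Aut

theorem aut_ext {g h : P.Aut} (e : ∀ m : M, g • m = h • m) : g = h :=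
  RootPairing.Equiv.weightHom_injective P (LinearEquiv.ext e)

theorem weightHom_eq_smul (g : P.Aut) (m : M) : RootPairing.Equiv.weightHom P g m = g • m := rfl

theorem root_smul (g : P.Aut) (i : ι) : P.root (g • i) = g • P.root i :=
  RootPairing.Equiv.root_indexEquiv_eq_smul P i g

theorem smul_neg_index (g : P.Aut) (i : ι) :
    g • P.reflectionPerm i i = P.reflectionPerm (g • i) (g • i) := by
  apply P.root.injective
  rw [root_smul, root_neg, root_neg, root_smul, smul_neg]

theorem smul_zsmul (g : P.Aut) (a : ℤ) (x : M) : g • (a • x) = a • g • x :=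
  map_zsmul (DistribSMul.toAddMonoidHom M g) a x

theorem smul_coroot' (g : P.Aut) (i : ι) (x : M) :
    P.coroot' (g • i) (g • x) = P.coroot' i x := by
  have h1 := RootPairing.Hom.weight_coweight_transpose_apply P P (P.coroot (g • i)) g.toHom
  have h2 := RootPairing.Hom.coroot_coweightMap_apply P P (g • i) g.toHom
  have h3 : g.toHom.indexEquiv.symm (g • i) = i := g.toHom.indexEquiv.symm_apply_apply i
  rw [h2, h3] at h1
  exact LinearMap.congr_fun h1 x

theorem pairingIn_smul (g : P.Aut) (i j : ι) :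
    P.pairingIn ℤ (g • i) (g • j) = P.pairingIn ℤ i j := by
  have h := smul_coroot' P g j (P.root i)
  rw [← root_smul, root_coroot'_eq_pairing, root_coroot'_eq_pairing, pairing_eq_cast,
    pairing_eq_cast] at h
  exact_mod_cast h

theorem reflection_smul_index (i j : ι) :
    RootPairing.Equiv.reflection P i • j = P.reflectionPerm i j := rfl

theorem reflection_mul_self (i : ι) :
    RootPairing.Equiv.reflection P i * RootPairing.Equiv.reflection P i = 1 := by
  nth_rw 1 [← RootPairing.Equiv.reflection_inv P i]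
  exact inv_mul_cancel _

theorem conj_reflection (g : P.Aut) (i : ι) :
    g * RootPairing.Equiv.reflection P i * g⁻¹ = RootPairing.Equiv.reflection P (g • i) := by
  refine aut_ext P fun m => ?_
  have h := smul_coroot' P g i (g⁻¹ • m)
  rw [smul_inv_smul] at h
  rw [mul_smul, mul_smul, RootPairing.Equiv.reflection_smul, RootPairing.Equiv.reflection_smul,
    reflection_apply, reflection_apply, smul_sub, smul_inv_smul, smul_comm g, ← root_smul, h]

theorem mul_reflection (g : P.Aut) (i : ι) :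
    g * RootPairing.Equiv.reflection P i = RootPairing.Equiv.reflection P (g • i) * g := by
  rw [← conj_reflection, inv_mul_cancel_right]

theorem reflection_neg (i : ι) :
    RootPairing.Equiv.reflection P (P.reflectionPerm i i) = RootPairing.Equiv.reflection P i := by
  have h := conj_reflection P (RootPairing.Equiv.reflection P i) i
  rw [reflection_smul_index, reflection_mul_self, one_mul, RootPairing.Equiv.reflection_inv] at h
  exact h.symm

theorem reflection_of_two [Finite ι] {i j : ι} (h : P.root i = (2 : ℤ) • P.root j) :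
    RootPairing.Equiv.reflection P i = RootPairing.Equiv.reflection P j := by
  have := isAddTorsionFree_right P
  have h' : P.root i = (2 : R) • P.root j := by
    rw [h, ← Int.cast_smul_eq_zsmul R]; norm_num
  have hc := P.smul_coroot_eq_of_root_eq_smul j i (2 : R) h'
  refine aut_ext P fun m => ?_
  rw [RootPairing.Equiv.reflection_smul, RootPairing.Equiv.reflection_smul, reflection_apply,
    reflection_apply, h', smul_smul]
  congr 2
  show P.toLinearMap.flip (P.coroot i) m * 2 = P.toLinearMap.flip (P.coroot j) m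
  rw [← hc, map_smul, LinearMap.smul_apply, smul_eq_mul, mul_comm]

end Aut

/-! ### indivisible roots -/

theorem indiv_smul {i : ι} (hi : ∀ j, (2 : ℤ) • P.root j ≠ P.root i) (g : P.Aut) (j : ι) :
    (2 : ℤ) • P.root j ≠ P.root (g • i) := by
  intro h
  apply hi (g⁻¹ • j)
  rw [root_smul, ← smul_zsmul, h, root_smul, inv_smul_smul]

section Simple

variable {P} [Finite ι] {Δ : Set ι}

theorem IsSimple.root_eq_of_coeff_single (hΔ : IsSimple P Δ) {k i : ι}
    (h : ∀ j, j ≠ i → hΔ.coeff k j = 0) : P.root k = hΔ.coeff k i • P.root i := by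
  classical
  have : hΔ.coeff k = Finsupp.single i (hΔ.coeff k i) := by
    ext j
    rcases eq_or_ne j i with rfl | hj
    · simp
    · rw [h j hj, Finsupp.single_eq_of_ne hj]
  conv_lhs => rw [← hΔ.lc_coeff k, this]
  simp

/-- A positive root made non-positive by a simple reflection is `i` or twice `i`. -/
theorem IsSimple.eq_or_two_of_reflect (hΔ : IsSimple P Δ) {k i : ι} (hk : k ∈ RootD.posOf P Δ)
    (hi : i ∈ Δ) (h : P.reflectionPerm i k ∉ RootD.posOf P Δ) :
    k = i ∨ P.root k = (2 : ℤ) • P.root i := by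
  have hsupp : ∀ j, j ≠ i → hΔ.coeff k j = 0 := by
    intro j hj
    have h0 := hΔ.mem_posOf_iff.mp hk j
    by_contra hne
    apply h
    refine hΔ.pos_of_coeff_pos (j := j) ?_
    rw [hΔ.coeff_reflect, hΔ.coeff_self hi, Finsupp.sub_apply, Finsupp.smul_apply,
      Finsupp.single_eq_of_ne hj, smul_zero, sub_zero]
    omega
  have e := hΔ.root_eq_of_coeff_single hsupp
  have h0 := hΔ.mem_posOf_iff.mp hk i
  rcases zsmul_root_cases P one_ne_zero (i := i) (j := k) (by rw [one_smul]; exact e) with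
    ⟨e1, -⟩ | ⟨-, e2⟩ | ⟨e1, -⟩ | ⟨-, e2⟩ | ⟨e1, -⟩ | ⟨-, e2⟩
  · exact Or.inl (P.root.injective e1)
  · omega
  · exact Or.inr e1
  · omega
  · exact absurd e1.symm (hΔ.indiv hi k)
  · omega

theorem IsSimple.reflect_pos (hΔ : IsSimple P Δ) {k i : ι} (hk : k ∈ RootD.posOf P Δ)
    (hi : i ∈ Δ) (h1 : k ≠ i) (h2 : P.root k ≠ (2 : ℤ) • P.root i) :
    P.reflectionPerm i k ∈ RootD.posOf P Δ := by
  by_contra h
  exact (hΔ.eq_or_two_of_reflect hk hi h).elim h1 h2

theorem IsSimple.eq_of_reflect (hΔ : IsSimple P Δ) {k i : ι} (hk : k ∈ RootD.posOf P Δ)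
    (hind : ∀ j, (2 : ℤ) • P.root j ≠ P.root k) (hi : i ∈ Δ)
    (h : P.reflectionPerm i k ∉ RootD.posOf P Δ) : k = i :=
  (hΔ.eq_or_two_of_reflect hk hi h).resolve_right fun e => hind i e.symm

theorem IsSimple.reflect_not_pos (hΔ : IsSimple P Δ) {k i : ι} (hi : i ∈ Δ)
    (h : k = i ∨ P.root k = (2 : ℤ) • P.root i) :
    P.reflectionPerm i k ∉ RootD.posOf P Δ := by
  intro hp
  have h1 : ∀ (a : ℤ), 0 < a → hΔ.coeff k = a • hΔ.coeff i → False := by
    intro a ha e
    have := hΔ.mem_posOf_iff.mp hp i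
    have h2 : P.pairingIn ℤ k i = 2 * a := by
      have e' : P.root k = a • P.root i := by
        rw [← hΔ.lc_coeff k, e, map_smul, hΔ.lc_coeff]
      have h3 := congrArg (P.coroot' i) e'
      simp only [map_zsmul, root_coroot'_eq_pairing, pairing_eq_cast, pairingIn_self,
        zsmul_eq_mul] at h3
      have : P.pairingIn ℤ k i = a * 2 := by exact_mod_cast h3
      omega
    rw [hΔ.coeff_reflect, e, hΔ.coeff_self hi, h2] at this
    simp at this
    omega
  rcases h with rfl | h
  · exact h1 1 one_pos (by simp)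
  · exact h1 2 two_pos (hΔ.coeff_zsmul h)

end Simple

/-! ### words -/

/-- The product of reflections given by a list of indices. -/
noncomputable def wordProd (l : List ι) : P.Aut :=
  (l.map fun i => RootPairing.Equiv.reflection P i).prod

@[simp] theorem wordProd_nil : wordProd P ([] : List ι) = 1 := rfl

@[simp] theorem wordProd_cons (a : ι) (l : List ι) :
    wordProd P (a :: l) = RootPairing.Equiv.reflection P a * wordProd P l := by
  simp [wordProd]

@[simp] theorem wordProd_append (l l' : List ι) :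
    wordProd P (l ++ l') = wordProd P l * wordProd P l' := by
  simp [wordProd]

theorem wordProd_singleton (a : ι) : wordProd P [a] = RootPairing.Equiv.reflection P a := by simp

theorem exists_word {T : Set ι} {g : P.Aut}
    (hg : g ∈ Subgroup.closure ((fun i : ι => RootPairing.Equiv.reflection P i) '' T)) :
    ∃ l : List ι, (∀ a ∈ l, a ∈ T) ∧ wordProd P l = g := by
  induction hg using Subgroup.closure_induction'' with
  | one => exact ⟨[], by simp, rfl⟩
  | mem x hx =>
    obtain ⟨a, ha, rfl⟩ := hx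
    exact ⟨[a], by simpa using ha, wordProd_singleton P a⟩
  | inv_mem x hx =>
    obtain ⟨a, ha, rfl⟩ := hx
    exact ⟨[a], by simpa using ha,
      (wordProd_singleton P a).trans (RootPairing.Equiv.reflection_inv P a).symm⟩
  | mul x y _ _ hx hy =>
    obtain ⟨l, hl, rfl⟩ := hx
    obtain ⟨l', hl', rfl⟩ := hy
    exact ⟨l ++ l', fun a ha => (List.mem_append.mp ha).elim (hl a) (hl' a), wordProd_append P l l'⟩

theorem wordProd_mem {T : Set ι} {l : List ι} (hl : ∀ a ∈ l, a ∈ T) :
    wordProd P l ∈ Subgroup.closure ((fun i : ι => RootPairing.Equiv.reflection P i) '' T) := by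
  induction l with
  | nil => exact one_mem _
  | cons a l ih =>
    rw [wordProd_cons]
    exact mul_mem (Subgroup.subset_closure ⟨a, hl a (by simp), rfl⟩)
      (ih fun b hb => hl b (List.mem_cons_of_mem _ hb))

theorem wordProd_mem_weylGroup (l : List ι) : wordProd P l ∈ P.weylGroup := by
  induction l with
  | nil => exact one_mem _
  | cons a l ih => rw [wordProd_cons]; exact mul_mem (P.reflection_mem_weylGroup a) ih

/-- A word of least length with the given product, letters in `T`. -/
def IsMinimal (T : Set ι) (l : List ι) : Prop :=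
  (∀ a ∈ l, a ∈ T) ∧
    ∀ l' : List ι, (∀ a ∈ l', a ∈ T) → wordProd P l' = wordProd P l → l.length ≤ l'.length

theorem exists_minimal {T : Set ι} {g : P.Aut}
    (hg : g ∈ Subgroup.closure ((fun i : ι => RootPairing.Equiv.reflection P i) '' T)) :
    ∃ l, IsMinimal P T l ∧ wordProd P l = g := by
  classical
  have hex : ∃ n, ∃ l : List ι, (∀ a ∈ l, a ∈ T) ∧ wordProd P l = g ∧ l.length = n := by
    obtain ⟨l, hl, e⟩ := exists_word P hg
    exact ⟨_, l, hl, e, rfl⟩
  obtain ⟨l, hl, e, hlen⟩ := Nat.find_spec hex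
  exact ⟨l, ⟨hl, fun l' hl' e' => hlen ▸ Nat.find_le ⟨l', hl', e'.trans e, rfl⟩⟩, e⟩

theorem IsMinimal.init {T : Set ι} {l : List ι} {a : ι} (h : IsMinimal P T (l ++ [a])) :
    IsMinimal P T l := by
  refine ⟨fun b hb => h.1 b (List.mem_append_left _ hb), fun l' hl' e => ?_⟩
  have := h.2 (l' ++ [a])
    (fun b hb => (List.mem_append.mp hb).elim (hl' b)
      (fun hb => h.1 b (List.mem_append_right _ hb)))
    (by rw [wordProd_append, wordProd_append, e])
  simpa using this

section Weyl

variable {P} [Finite ι] {Δ : Set ι}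

/-- The exchange condition. -/
theorem IsSimple.exchange (hΔ : IsSimple P Δ) (l : List ι) (hl : ∀ a ∈ l, a ∈ Δ) {δ : ι}
    (hδ : δ ∈ Δ) (h : wordProd P l • δ ∉ RootD.posOf P Δ) :
    ∃ l' : List ι, l'.length + 1 = l.length ∧ (∀ a ∈ l', a ∈ l) ∧
      wordProd P l' = wordProd P l * RootPairing.Equiv.reflection P δ := by
  induction l with
  | nil => rw [wordProd_nil, one_smul] at h; exact absurd (hΔ.mem_posOf_self hδ) h
  | cons a t ih =>
    have ha : a ∈ Δ := hl a (by simp)
    rw [wordProd_cons, mul_smul, reflection_smul_index] at h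
    by_cases ht : wordProd P t • δ ∈ RootD.posOf P Δ
    · refine ⟨t, by simp, fun b hb => List.mem_cons_of_mem _ hb, ?_⟩
      have e := hΔ.eq_of_reflect ht (indiv_smul P (hΔ.indiv hδ) _) ha h
      rw [wordProd_cons, mul_assoc, mul_reflection, e, ← mul_assoc, reflection_mul_self, one_mul]
    · obtain ⟨t', h1, h2, h3⟩ := ih (fun b hb => hl b (List.mem_cons_of_mem _ hb)) ht
      refine ⟨a :: t', by simp [← h1], ?_, ?_⟩
      · intro b hb
        rcases List.mem_cons.mp hb with rfl | hb
        · simp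
        · exact List.mem_cons_of_mem _ (h2 b hb)
      · rw [wordProd_cons, h3, wordProd_cons, mul_assoc]

theorem IsSimple.minimal_prefix_pos (hΔ : IsSimple P Δ) {T : Set ι} (hT : T ⊆ Δ) {l : List ι}
    {a : ι} (h : IsMinimal P T (l ++ [a])) : wordProd P l • a ∈ RootD.posOf P Δ := by
  by_contra hp
  have hl : ∀ b ∈ l, b ∈ T := fun b hb => h.1 b (List.mem_append_left _ hb)
  obtain ⟨l', h1, h2, h3⟩ := hΔ.exchange l (fun b hb => hT (hl b hb)) (hT (h.1 a (by simp))) hp
  have := h.2 l' (fun b hb => hl b (h2 b hb)) (by rw [h3, wordProd_append, wordProd_singleton])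
  simp at this
  omega

theorem IsSimple.minimal_last (hΔ : IsSimple P Δ) {T : Set ι} (hT : T ⊆ Δ) {l : List ι} {a : ι}
    (h : IsMinimal P T (l ++ [a])) : wordProd P (l ++ [a]) • a ∉ RootD.posOf P Δ := by
  rw [wordProd_append, mul_smul, wordProd_singleton, reflection_smul_index, smul_neg_index]
  exact fun hc => hΔ.neg_mem_iff.mp hc (hΔ.minimal_prefix_pos hT h)

theorem IsSimple.exists_conj_of_indiv_of_pos (hΔ : IsSimple P Δ) {k : ι}
    (hk : k ∈ RootD.posOf P Δ) (hind : ∀ j, (2 : ℤ) • P.root j ≠ P.root k) :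
    ∃ g ∈ Subgroup.closure ((fun i : ι => RootPairing.Equiv.reflection P i) '' Δ),
      ∃ i ∈ Δ, g • i = k := by
  induction hn : (hΔ.height k).toNat using Nat.strong_induction_on generalizing k with
  | _ n ih =>
    by_cases hkΔ : k ∈ Δ
    · exact ⟨1, one_mem _, k, hkΔ, one_smul _ _⟩
    obtain ⟨s, hs, e⟩ := (mem_natSpan_iff P).mp hk
    obtain ⟨i, hi, hpos⟩ := exists_pos_of_sum_pos (s := s) (f := fun a => P.pairingIn ℤ a k)
      (by rw [pairingIn_sum_of_sum_eq P e, pairingIn_self]; norm_num)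
    have hiΔ := hs i hi
    have hpos' : 0 < P.pairingIn ℤ k i := (P.zero_lt_pairingIn_iff' ℤ).mp hpos
    have hne : k ≠ i := fun e => hkΔ (e ▸ hiΔ)
    have hk' : P.reflectionPerm i k ∈ RootD.posOf P Δ :=
      hΔ.reflect_pos hk hiΔ hne fun e => hind i e.symm
    have hh : hΔ.height (P.reflectionPerm i k) = hΔ.height k - P.pairingIn ℤ k i := by
      classical
      simp only [IsSimple.height, hΔ.coeff_reflect, hΔ.coeff_self hiΔ]
      rw [Finsupp.sum_sub_index (by simp), Finsupp.smul_single, Finsupp.sum_single_index (by simp)]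
      simp
    have hi0 := hΔ.height_pos hk'
    have hind' : ∀ j, (2 : ℤ) • P.root j ≠ P.root (P.reflectionPerm i k) :=
      indiv_smul P hind (RootPairing.Equiv.reflection P i)
    obtain ⟨g, hg, j, hj, e⟩ := ih _ (by omega) hk' hind' rfl
    refine ⟨RootPairing.Equiv.reflection P i * g,
      mul_mem (Subgroup.subset_closure ⟨i, hiΔ, rfl⟩) hg, j, hj, ?_⟩
    rw [mul_smul, e, reflection_smul_index, P.reflectionPerm_self]

theorem IsSimple.exists_conj_of_indiv (hΔ : IsSimple P Δ) {k : ι}
    (hind : ∀ j, (2 : ℤ) • P.root j ≠ P.root k) :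
    ∃ g ∈ Subgroup.closure ((fun i : ι => RootPairing.Equiv.reflection P i) '' Δ),
      ∃ i ∈ Δ, g • i = k := by
  rcases hΔ.posOf_cover k with hk | hk
  · exact hΔ.exists_conj_of_indiv_of_pos hk hind
  obtain ⟨g, hg, i, hi, e⟩ := hΔ.exists_conj_of_indiv_of_pos hk
    (indiv_smul P hind (RootPairing.Equiv.reflection P k))
  refine ⟨g * RootPairing.Equiv.reflection P i,
    mul_mem hg (Subgroup.subset_closure ⟨i, hi, rfl⟩), i, hi, ?_⟩
  rw [mul_smul, reflection_smul_index, smul_neg_index, e, neg_neg_index]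

theorem indiv_of_two {i j : ι} (h : P.root i = (2 : ℤ) • P.root j) (k : ι) :
    (2 : ℤ) • P.root k ≠ P.root j := by
  intro e
  have h4 : (1 : ℤ) • P.root i = (4 : ℤ) • P.root k := by
    rw [h, ← e, one_smul, smul_smul]; rfl
  rcases zsmul_root_cases P one_ne_zero h4 with ⟨-, e⟩ | ⟨-, e⟩ | ⟨-, e⟩ | ⟨-, e⟩ | ⟨-, e⟩ | ⟨-, e⟩
    <;> omega

theorem IsSimple.weylGroup_eq (hΔ : IsSimple P Δ) :
    Subgroup.closure ((fun i : ι => RootPairing.Equiv.reflection P i) '' Δ) = P.weylGroup := by
  refine le_antisymm ?_ ?_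
  · rw [Subgroup.closure_le]
    rintro _ ⟨i, -, rfl⟩
    exact P.reflection_mem_weylGroup i
  rw [weylGroup, Subgroup.closure_le]
  rintro _ ⟨k, rfl⟩
  have key : ∀ k, (∀ j, (2 : ℤ) • P.root j ≠ P.root k) → RootPairing.Equiv.reflection P k ∈
      Subgroup.closure ((fun i : ι => RootPairing.Equiv.reflection P i) '' Δ) := by
    intro k hk
    obtain ⟨g, hg, i, hi, rfl⟩ := hΔ.exists_conj_of_indiv hk
    rw [← conj_reflection]
    exact mul_mem (mul_mem hg (Subgroup.subset_closure ⟨i, hi, rfl⟩)) (inv_mem hg)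
  by_cases hk : ∀ j, (2 : ℤ) • P.root j ≠ P.root k
  · exact key k hk
  push Not at hk
  obtain ⟨j, hj⟩ := hk
  rw [reflection_of_two P hj.symm]
  exact key j (indiv_of_two hj.symm)

theorem IsSimple.exists_minimal_weyl (hΔ : IsSimple P Δ) {g : P.Aut} (hg : g ∈ P.weylGroup) :
    ∃ l, IsMinimal P Δ l ∧ wordProd P l = g :=
  exists_minimal P (hΔ.weylGroup_eq.symm ▸ hg)

theorem IsSimple.eq_one_of_preserves (hΔ : IsSimple P Δ) {g : P.Aut} (hg : g ∈ P.weylGroup)
    (h : ∀ i ∈ Δ, g • i ∈ RootD.posOf P Δ) : g = 1 := by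
  obtain ⟨l, hl, rfl⟩ := hΔ.exists_minimal_weyl hg
  rcases List.eq_nil_or_concat' l with rfl | ⟨t, a, rfl⟩
  · exact wordProd_nil P
  · exact absurd (h a (hl.1 a (by simp))) (hΔ.minimal_last subset_rfl hl)

theorem IsSimple.eq_of_smul_eq (hΔ : IsSimple P Δ) {g h : P.Aut} (hg : g ∈ P.weylGroup)
    (hh : h ∈ P.weylGroup) (e : ∀ i ∈ Δ, g • i = h • i) : g = h := by
  refine (inv_mul_eq_one.mp (hΔ.eq_one_of_preserves (mul_mem (inv_mem hg) hh) fun i hi => ?_))
  rw [mul_smul, ← e i hi, inv_smul_smul]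
  exact hΔ.mem_posOf_self hi

end Weyl

/-! ### transitivity -/

theorem isPosSys_smul [Finite ι] {S : Set ι} (hS : RootD.IsPosSys P S) (g : P.Aut) :
    RootD.IsPosSys P ((fun i => g • i) '' S) := by
  have hmem : ∀ i, i ∈ (fun i => g • i) '' S ↔ g⁻¹ • i ∈ S := fun i =>
    ⟨by rintro ⟨j, hj, rfl⟩; simpa using hj, fun h => ⟨_, h, smul_inv_smul g i⟩⟩
  have hc := isClosedSub_of_isPosSys P hS
  refine isPosSys_of_closed P (fun i hi => ?_) (fun i => ?_) fun i j k hi hj e => ?_
  · rw [hmem] at hi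
    rw [hmem, smul_neg_index]
    exact hS.disjoint hi
  · rw [hmem, hmem, smul_neg_index]
    exact hS.cover _
  · rw [hmem] at hi hj
    rw [hmem]
    exact hc hi hj (by simp only [root_smul, e, smul_add])

theorem isSimple_smul [Finite ι] {Δ : Set ι} (hΔ : IsSimple P Δ) (g : P.Aut) :
    IsSimple P ((fun i => g • i) '' Δ) := by
  have hS := isPosSys_smul P hΔ.isPosSys_posOf g
  have : (fun i => g • i) '' Δ = indec P ((fun i => g • i) '' RootD.posOf P Δ) := by
    conv_lhs => rw [← hΔ.indec_posOf]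
    ext k
    constructor
    · rintro ⟨a, ⟨ha, hn⟩, rfl⟩
      refine ⟨⟨a, ha, rfl⟩, ?_⟩
      rintro ⟨_, _, ⟨i, hi, rfl⟩, ⟨j, hj, rfl⟩, e⟩
      refine hn ⟨i, j, hi, hj, ?_⟩
      simp only [root_smul, ← smul_add] at e
      exact smul_left_cancel g e
    · rintro ⟨⟨a, ha, rfl⟩, hn⟩
      refine ⟨a, ⟨ha, ?_⟩, rfl⟩
      rintro ⟨i, j, hi, hj, e⟩
      exact hn ⟨g • i, g • j, ⟨i, hi, rfl⟩, ⟨j, hj, rfl⟩, by simp only [root_smul, e, smul_add]⟩
  rw [this]
  exact isSimple_indec hS

/-- A positive system can be moved by the Weyl group into any closed set `P'` containing a root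
of each opposite pair. -/
theorem exists_smul_subset_closed [Finite ι] {S : Set ι} (hS : RootD.IsPosSys P S) {P' : Set ι}
    (hP2 : ∀ i : ι, i ∈ P' ∨ P.reflectionPerm i i ∈ P') (hcl : RootD.IsClosedSub P P') :
    ∃ g : P.Aut, g ∈ P.weylGroup ∧ (fun i : ι => g • i) '' S ⊆ P' := by
  induction hn : (S \ P').ncard using Nat.strong_induction_on generalizing S with
  | _ n ih =>
    by_cases h : S ⊆ P'
    · exact ⟨1, one_mem _, by simpa using h⟩
    have hΔ := isSimple_indec hS
    obtain ⟨δ, hδ, hδP⟩ : ∃ δ ∈ indec P S, δ ∉ P' := by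
      by_contra! hc
      exact h fun k hk =>
        mem_of_root_mem_natSpan P hcl (natSpan_mono P hc (posSys_mem_natSpan_indec hS hk))
    have hsub : (fun i => RootPairing.Equiv.reflection P δ • i) '' S \ P' ⊆ (S \ P') \ {δ} := by
      rintro _ ⟨⟨k, hk, rfl⟩, hnP⟩
      simp only [reflection_smul_index] at hnP ⊢
      by_cases hp : P.reflectionPerm δ k ∈ S
      · refine ⟨⟨hp, hnP⟩, fun e => ?_⟩
        have hk' : k = P.reflectionPerm δ δ := by
          have := congrArg (P.reflectionPerm δ) (Set.mem_singleton_iff.mp e)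
          rwa [P.reflectionPerm_self] at this
        exact hS.disjoint hδ.1 (hk' ▸ hk)
      · exfalso
        apply hnP
        have hneg : P.reflectionPerm δ δ ∈ P' := (hP2 δ).resolve_left hδP
        rw [← posOf_indec hS] at hk hp
        rcases hΔ.eq_or_two_of_reflect hk hδ hp with rfl | e
        · exact hneg
        · refine hcl hneg hneg ?_
          rw [P.root_reflectionPerm, e, map_zsmul, ← P.root_reflectionPerm, two_smul]
    have hlt : ((fun i => RootPairing.Equiv.reflection P δ • i) '' S \ P').ncard < n := by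
      have h1 := Set.ncard_le_ncard hsub (Set.toFinite _)
      have h2 := Set.ncard_sdiff_singleton_lt_of_mem (s := S \ P') ⟨hδ.1, hδP⟩ (Set.toFinite _)
      omega
    obtain ⟨g, hg, hgS⟩ := ih _ hlt (isPosSys_smul P hS _) rfl
    refine ⟨g * RootPairing.Equiv.reflection P δ, mul_mem hg (P.reflection_mem_weylGroup δ), ?_⟩
    rw [Set.image_image] at hgS
    simpa only [mul_smul] using hgS

theorem weylGroup_transitive_posSys [Finite ι] {S S' : Set ι} (hS : RootD.IsPosSys P S)
    (hS' : RootD.IsPosSys P S') :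
    ∃ g : P.Aut, g ∈ P.weylGroup ∧ (fun i : ι => g • i) '' S = S' := by
  obtain ⟨g, hg, hsub⟩ :=
    exists_smul_subset_closed P hS hS'.cover (isClosedSub_of_isPosSys P hS')
  refine ⟨g, hg, Set.Subset.antisymm hsub fun k hk => ?_⟩
  exact ((isPosSys_smul P hS g).cover k).resolve_right fun hn => hS'.disjoint hk (hsub hn)

theorem weylGroup_transitive_simple [Finite ι] {Δ Δ' : Set ι} (hΔ : IsSimple P Δ)
    (hΔ' : IsSimple P Δ') :
    ∃ g : P.Aut, g ∈ P.weylGroup ∧ (fun i : ι => g • i) '' Δ = Δ' := by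
  obtain ⟨g, hg, e⟩ := weylGroup_transitive_posSys P hΔ.isPosSys_posOf hΔ'.isPosSys_posOf
  refine ⟨g, hg, ?_⟩
  rw [eq_indec_of_subset hΔ' hΔ'.isPosSys_posOf fun i hi => hΔ'.mem_posOf_self hi]
  refine eq_indec_of_subset (isSimple_smul P hΔ g) hΔ'.isPosSys_posOf ?_
  rw [← e]
  exact Set.image_mono fun i hi => hΔ.mem_posOf_self hi

end Groth.Agent.RootDatum
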